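import Mathlib
import Cfsg.Agent.Lib.Mdl.F4

/-! A certificate for a scalar commutant of coded matrices over a field with four elements (helper5). -/

set_option autoImplicit false

namespace H5.C4
open H15.Mdl Matrix
open H54 (dig dig_xor onesN nth nth_mem dig_lt)

variable {F : Type*} [Field F] {ω : F} {ι : Type*} [Fintype ι] [DecidableEq ι]
  {ix : ι → ℕ} {pt : ℕ → ι} {n : ℕ}

theorem R4_add (X : Is4 F ω) (N : Num ix pt n) {A B : Matrix ι ι F} {p q : ℕ} (r : R4 ω ix n A p)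
    (s : R4 ω ix n B q) : R4 ω ix n (A + B) (Nat.xor p q) := by
  refine ⟨Nat.xor_lt_two_pow r.1 s.1, fun k hk => ?_⟩
  show (A + B) *ᵥ _ = dec _ _ (dig _ (p ^^^ q) k)
  rw [dig_xor, dec_xor (f2Data4 X N (rho4 ι F)).two, ← r.2 k hk, ← s.2 k hk, Matrix.add_mulVec]; rfl

omit [Fintype ι] [DecidableEq ι] in
theorem dec_mem {b : ℕ → ι → F} {m : ℕ} {W : Submodule F (ι → F)} (h : ∀ k, k < m → b k ∈ W) (x : ℕ) :
    dec b m x ∈ W :=
  W.sum_mem fun k hk => by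
    split_ifs
    exacts [h k (Finset.mem_range.1 hk), W.zero_mem]

/-- `p` codes a matrix commuting with `M` -/
def Cm (ω : F) (ix : ι → ℕ) (n : ℕ) (M : Matrix ι ι F) (p : ℕ) : Prop :=
  ∃ A, R4 ω ix n A p ∧ M * A = A * M

theorem Cm.mul (X : Is4 F ω) (N : Num ix pt n) {o : Ops} (ho : IsF2 o (2 * n)) {M : Matrix ι ι F}
    {p q : ℕ} (a : Cm ω ix n M p) (b : Cm ω ix n M q) : Cm ω ix n M (o.mul p q) := by
  obtain ⟨A, r, h⟩ := a
  obtain ⟨B, s, k⟩ := b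
  exact ⟨A * B, (sound4 X N ho).mul r s, by rw [← mul_assoc, h, mul_assoc, k, mul_assoc]⟩

theorem Cm.add_one (X : Is4 F ω) (N : Num ix pt n) {o : Ops} (ho : IsF2 o (2 * n)) {M : Matrix ι ι F}
    {p : ℕ} (a : Cm ω ix n M p) : Cm ω ix n M (Nat.xor p o.one) := by
  obtain ⟨A, r, h⟩ := a
  exact ⟨A + 1, R4_add X N r (sound4 X N ho).one, by rw [mul_add, add_mul, h, mul_one, one_mul]⟩

theorem Cm.omega (X : Is4 F ω) (N : Num ix pt n) {o : Ops} (ho : IsF2 o (2 * n)) (M : Matrix ι ι F) :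
    Cm ω ix n M (wop (onesN 2 (n * (2 * n))) o.one) :=
  ⟨ω • (1 : Matrix ι ι F), R4.wop X N (sound4 X N ho).one, by simp⟩

theorem scalar_of_cert (X : Is4 F ω) (N : Num ix pt n) {o : Ops} (ho : IsF2 o (2 * n))
    {M : Matrix ι ι F} {S : List ℕ} (hS : ∀ s ∈ S, Cm ω ix n M s) {e : ℕ} (he : Cm ω ix n M e)
    {T T' y : ℕ} {par gen : ℕ → ℕ} {act : ℕ → ℕ → ℕ}
    (hact : ∀ p q, act p q = mm (2 * n) (2 ^ (2 * n) - 1) 1 p q)
    (c1 : ∀ k, k < 2 * n → dig (2 * n) e k = 0 ∨ dig (2 * n) e k = dig (2 * n) T 0 ∨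
      dig (2 * n) e k = wop (onesN 2 n) (dig (2 * n) T 0) ∨
      dig (2 * n) e k = wop (onesN 2 n) (wop (onesN 2 n) (dig (2 * n) T 0)))
    (c2 : y < 2 * n ∧ dig (2 * n) e y = dig (2 * n) T 0)
    (c3 : ∀ k, k < 2 * n → k = 0 ∨ (par k < k ∧ gen k < S.length ∧
      dig (2 * n) T k = act (nth S (gen k)) (dig (2 * n) T (par k))))
    (c4 : o.mul T T' = o.one) : ∃ c : F, M = c • (1 : Matrix ι ι F) := by
  have D := f2Data4 X N (rho4 ι F)
  obtain ⟨E, rE, hE⟩ := he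
  obtain ⟨v, hv⟩ : ∃ v, v = dec (b4 ω ix) (2 * n) (dig (2 * n) T 0) := ⟨_, rfl⟩
  have h1 : ∀ z, E *ᵥ z ∈ Submodule.span F {v} := fun z => by
    obtain ⟨x, -, rfl⟩ := exists_dec4 X N z
    have := R2.apply_dec rE x
    refine (show E *ᵥ _ = _ from this) ▸ dec_mem (fun k hk => ?_) x
    have m := Submodule.mem_span_singleton_self (R := F) v
    rcases c1 k hk with h | h | h | h <;> rw [h]
    · rw [dec_zero]; exact Submodule.zero_mem _
    · exact hv ▸ m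
    · rw [dec_wop X N le_rfl, ← hv]; exact Submodule.smul_mem _ _ m
    · rw [dec_wop X N le_rfl, dec_wop X N le_rfl, ← hv]
      exact Submodule.smul_mem _ _ (Submodule.smul_mem _ _ m)
  have h2 : E *ᵥ b4 ω ix y = v := by rw [hv, ← c2.2]; exact rE.2 y c2.1
  obtain ⟨c, hc⟩ := Submodule.mem_span_singleton.1 (h1 (M *ᵥ b4 ω ix y))
  rw [mulVec_mulVec, ← hE, ← mulVec_mulVec, h2] at hc
  let W : Submodule F (ι → F) := LinearMap.ker (Matrix.toLin' (M - c • (1 : Matrix ι ι F)))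
  have hW : ∀ z, z ∈ W ↔ M *ᵥ z = c • z := fun z => by
    simp [W, sub_mulVec, smul_mulVec, sub_eq_zero]
  have h3 : ∀ k, k < 2 * n → dec (b4 ω ix) (2 * n) (dig (2 * n) T k) ∈ W := fun k => by
    induction k using Nat.strong_induction_on with
    | _ k ih =>
      intro hk
      rcases c3 k hk with rfl | ⟨a1, a2, a3⟩
      · exact (hW _).2 (hv ▸ hc.symm)
      · obtain ⟨A, rA, hA⟩ := hS _ (nth_mem S _ a2)
        have := (hW _).1 (ih _ a1 (a1.trans hk))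
        rw [a3, hact, (R2.dec_act D rA (dig_lt _ _ _)).2, hW]
        show M *ᵥ (A *ᵥ _) = c • (A *ᵥ _)
        rw [mulVec_mulVec, hA, ← mulVec_mulVec, this, mulVec_smul]
  have h4 : ∀ k, k < 2 * n → b4 ω ix k ∈ W := fun k hk => by
    have := dec_mmAux D.two (2 * n) T T' k (2 * n) le_rfl
    rw [ho.mul, ho.one, mm] at c4
    rw [c4, dig_idM, if_pos hk, if_pos hk, dec_two_pow _ hk] at this
    exact this ▸ dec_mem h3 _
  refine ⟨c, Matrix.ext fun i k => ?_⟩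
  have hk := N.lt k
  have e1 := congrFun ((hW _).1 (h4 (2 * ix k) (by omega))) i
  have e2 := rho4_b4 (ω := ω) N M (k := 2 * ix k) (by omega) i
  have e3 := rho4_b4 (ω := ω) N (c • (1 : Matrix ι ι F)) (k := 2 * ix k) (by omega) i
  rw [if_pos (by omega), mul_one, Nat.mul_div_cancel_left _ (by norm_num), N.pt_ix] at e2 e3
  rw [← e2, ← e3]
  refine e1.trans ?_
  show _ = ((c • (1 : Matrix ι ι F)) *ᵥ _) i
  rw [smul_mulVec, one_mulVec]

end H5.C4
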