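import Mathlib
import Cfsg.Agent.Lib.H5.E2Dat

/-! Coded vectors and matrices of size 78 over `𝔽₂`, the bracket (helper5). -/

set_option autoImplicit false
set_option maxRecDepth 100000
set_option exponentiation.threshold 1000000

namespace H5.E2
open H15.Mdl Matrix
open H54 (dig dig_xor dig_lt dig_zero nth nth_mem force force_eq allLt allLt_iff)

/-- the sum of the entries of `L` at the bits of `x` -/
noncomputable def lc (L : List ℕ) : ℕ → ℕ :=
  List.rec (motive := fun _ => ℕ → ℕ) (fun _ => 0) (fun a _ ih x => force x fun x =>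
    Nat.xor (Nat.mul (Nat.land x 1) a) (ih (Nat.shiftRight x 1))) L

theorem lc_rel {V : Type*} [AddCommGroup V] {R : V → ℕ → Prop} (h0 : R 0 0)
    (ha : ∀ {a b p q}, R a p → R b q → R (a + b) (Nat.xor p q)) : ∀ (L : List ℕ) (b : ℕ → V),
    (∀ i, i < L.length → R (b i) (nth L i)) → ∀ x, R (dec b L.length x) (lc L x)
  | [], _, _, _ => h0
  | a :: L, b, h, x => by
    have ih := lc_rel h0 ha L (fun i => b (i + 1)) (fun i hi => h (i + 1) (by simpa using hi)) (x >>> 1)
    have e : dec b (a :: L).length x = (if x.testBit 0 then b 0 else 0) +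
        dec (fun i => b (i + 1)) L.length (x >>> 1) := by
      simp only [dec, List.length_cons, Finset.sum_range_succ', Nat.testBit_shiftRight, add_comm]
    rw [e]
    refine ha (p := (x &&& 1) * a) ?_ ih
    rw [Nat.and_one_is_mod, Nat.testBit_zero]
    rcases Nat.mod_two_eq_zero_or_one x with e | e <;> rw [e]
    · simpa using h0
    · simpa using (show R (b 0) a from h 0 (Nat.succ_pos _))

/-- vectors -/
abbrev W : Type := Fin 78 → ZMod 2
/-- matrices -/
abbrev MM : Type := Matrix (Fin 78) (Fin 78) (ZMod 2)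

/-- the vector with code `x` -/
def vec (x : ℕ) : W := dec (stdB 78) 78 x
/-- `x` is the code of `v` -/
def RV (v : W) (x : ℕ) : Prop := x < 2 ^ 78 ∧ v = vec x
/-- `p` is the code of `A` -/
def RM (A : MM) (p : ℕ) : Prop := R2 (matRho 78) (stdB 78) 78 A p
/-- the matrix with code `p` -/
def mat (p : ℕ) : MM := Matrix.of fun i k => if (dig 78 p k).testBit i then 1 else 0

theorem DD : F2Data (matRho 78) (stdB 78) 78 := f2Data_std (by norm_num) _
theorem sM : Sound oo RM := sound_mat (by norm_num) oo_is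
theorem RM_mat {p : ℕ} (h : p < 2 ^ (78 * 78)) : RM (mat p) p := R2_mat h fun _ _ => rfl

theorem RV_vec {x : ℕ} (h : x < 2 ^ 78) : RV (vec x) x := ⟨h, rfl⟩
theorem RV.zero : RV 0 0 := ⟨by norm_num, (dec_zero _ _).symm⟩
theorem RV.add {v w : W} {x y : ℕ} (a : RV v x) (b : RV w y) : RV (v + w) (Nat.xor x y) :=
  ⟨Nat.xor_lt_two_pow a.1 b.1, by rw [a.2, b.2]; exact (dec_xor DD.two x y).symm⟩
theorem RV.eq_iff {v w : W} {x y : ℕ} (a : RV v x) (b : RV w y) : v = w ↔ x = y :=
  ⟨fun e => dec_inj DD.two DD.ind a.1 b.1 (a.2.symm.trans (e.trans b.2)),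
    fun e => by rw [a.2, b.2, e]⟩
theorem RV.act {A : MM} {v : W} {p x : ℕ} (a : RM A p) (b : RV v x) : RV (A *ᵥ v) (oo_act p x) := by
  have := R2.dec_act DD a b.1
  rw [oo_act_eq]
  exact ⟨this.1, by rw [b.2]; exact this.2.symm⟩
theorem RV_std {k : ℕ} (h : k < 78) : RV (stdB 78 k) (2 ^ k) :=
  ⟨Nat.pow_lt_pow_right (by norm_num) h, (dec_two_pow _ h).symm⟩
theorem RM.col {A : MM} {p : ℕ} (a : RM A p) {k : ℕ} (h : k < 78) :
    RV (A *ᵥ stdB 78 k) (dig 78 p k) := ⟨dig_lt _ _ _, a.2 k h⟩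
theorem R2_zero (n : ℕ) : R2 (matRho n) (stdB n) n 0 0 := ⟨Nat.two_pow_pos _, fun k _ => by
  rw [dig_zero, dec_zero]; exact Matrix.zero_mulVec (stdB n k)⟩
theorem RM.zero : RM 0 0 := R2_zero 78
theorem RM.add {A B : MM} {p q : ℕ} (a : RM A p) (b : RM B q) : RM (A + B) (Nat.xor p q) :=
  ⟨Nat.xor_lt_two_pow a.1 b.1, fun k hk => by
    show (A + B) *ᵥ _ = dec _ _ (dig _ (p ^^^ q) k)
    rw [dig_xor, dec_xor DD.two, ← a.2 k hk, ← b.2 k hk, Matrix.add_mulVec]; rfl⟩
theorem RM.eq_iff {A B : MM} {p q : ℕ} (a : RM A p) (b : RM B q) : A = B ↔ p = q :=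
  ⟨fun e => R2.eq_of DD a b fun _ _ => by rw [e], fun e => sM.inj a (e ▸ b)⟩

theorem stdB_eq (k : Fin 78) : stdB 78 k = Pi.single k 1 := by
  funext i; simp [stdB, Pi.single_apply, Fin.val_inj]

theorem W_induction {P : W → Prop} (h0 : P 0) (ha : ∀ v w, P v → P w → P (v + w))
    (hs : ∀ k, k < 78 → P (stdB 78 k)) (v : W) : P v := by
  rw [← Finset.univ_sum_single v]
  refine Finset.sum_induction _ P ha h0 fun k _ => ?_
  rcases (by decide : ∀ t : ZMod 2, t = 0 ∨ t = 1) (v k) with e | e <;> rw [e]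
  · simpa using h0
  · exact stdB_eq k ▸ hs k k.2

theorem exists_RV (v : W) : ∃ x, RV v x :=
  W_induction (P := fun v => ∃ x, RV v x) ⟨0, RV.zero⟩ (fun _ _ ⟨_, a⟩ ⟨_, b⟩ => ⟨_, a.add b⟩)
    (fun _ h => ⟨_, RV_std h⟩) v

theorem add_self_W (v : W) : v + v = 0 := funext fun _ => CharTwo.add_self_eq_zero _
theorem add_self_M (A : MM) : A + A = 0 := Matrix.ext fun _ _ => CharTwo.add_self_eq_zero _

/-- the adjoint map -/
noncomputable def α : W →ₗ[ZMod 2] MM :=
  (Pi.basisFun (ZMod 2) (Fin 78)).constr (ZMod 2) fun k => mat (nth AL k)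

theorem AL_lt : ∀ k, k < 78 → nth AL k < 2 ^ (78 * 78) := by decide +kernel

theorem RM_α_std {k : ℕ} (h : k < 78) : RM (α (stdB 78 k)) (nth AL k) := by
  have := (Pi.basisFun (ZMod 2) (Fin 78)).constr_basis (ZMod 2) (fun k : Fin 78 => mat (nth AL k)) ⟨k, h⟩
  rw [Pi.basisFun_apply, ← stdB_eq] at this
  exact (show α _ = _ from this) ▸ RM_mat (AL_lt k h)

/-- the code of the adjoint map -/
noncomputable def ad (x : ℕ) : ℕ := lc AL x

theorem RV.ad {v : W} {x : ℕ} (a : RV v x) : RM (α v) (ad x) := by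
  rw [a.2, vec, show α (dec _ _ x) = _ from map_dec α.toAddMonoidHom _ _ x]
  exact lc_rel RM.zero RM.add AL (fun i => α (stdB 78 i)) (fun i hi => RM_α_std hi) x

/-- the bracket -/
noncomputable def br (v w : W) : W := α v *ᵥ w
/-- the code of the bracket -/
noncomputable def cbr (x y : ℕ) : ℕ := oo_act (ad x) y

theorem RV.br {v w : W} {x y : ℕ} (a : RV v x) (b : RV w y) : RV (br v w) (cbr x y) := RV.act a.ad b

/-- `A` respects the bracket -/
def Inv (A : MM) : Prop := ∀ v, A * α v = α (A *ᵥ v) * A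

theorem Inv.one : Inv 1 := fun v => by simp
theorem Inv.mul {A B : MM} (a : Inv A) (b : Inv B) : Inv (A * B) := fun v => by
  rw [mul_assoc, b, ← mul_assoc, a, mulVec_mulVec, mul_assoc]
theorem Inv.br {A : MM} (a : Inv A) (v w : W) : A *ᵥ br v w = br (A *ᵥ v) (A *ᵥ w) := by
  rw [E2.br, E2.br, mulVec_mulVec, a, mulVec_mulVec]

/-- check of `Inv` -/
noncomputable def invChk (p : ℕ) : Bool :=
  force p fun p => allLt (fun k => Nat.beq (oo.mul p (nth AL k)) (oo.mul (ad (dig 78 p k)) p)) 78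

theorem RM.inv {A : MM} {p : ℕ} (a : RM A p) (c : invChk p = true) : Inv A := by
  rw [invChk, force_eq, allLt_iff] at c
  refine W_induction (by simp) (fun v w h k => ?_) fun k hk => ?_
  · rw [map_add, mul_add, h, k, mulVec_add, map_add, add_mul]
  · exact ((sM.mul a (RM_α_std hk)).eq_iff (sM.mul (a.col hk).ad a)).2 (Nat.eq_of_beq_eq_true (c k hk))

variable {G : Type*} [Group G]

/-- the code of a group element -/
def RG (τ : G →* MM) (g : G) (p : ℕ) : Prop := RM (τ g) p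

/-- a model of `²E₆(2)` -/
structure Md (τ : G →* MM) : Prop where
  inj : Function.Injective τ
  inv : ∀ g, Inv (τ g)
  roots : AllIn (RG τ) ⊤ RT
  card : Nat.card G = 76532479683774853939200

theorem Md.snd {τ : G →* MM} (h : Md τ) : Sound oo (RG τ) := sM.comap τ h.inj

/-- value of a word in the root elements -/
noncomputable def wd (w : List ℕ) : ℕ := oo.word RT w

theorem Md.word {τ : G →* MM} (h : Md τ) {w : List ℕ} (hw : ∀ j ∈ w, j < 72) : ∃ g, RG τ g (wd w) := by
  obtain ⟨g, -, r⟩ := In.word h.snd h.roots w hw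
  exact ⟨g, r⟩

end H5.E2
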