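import Mathlib
import Cfsg.Agent.Lib.H5.E2Base

/-! Overgroups of local subgroups from invariant sets of vectors (helper5). -/

set_option autoImplicit false
set_option maxRecDepth 100000
set_option exponentiation.threshold 1000000

namespace H5.E2
open H15.Mdl Matrix Subgroup
open H54 (dig nth force force_eq allLt allLt_iff sel sel_eq band band_eq_true bor bor_eq_true anyL anyL_iff)

attribute [local irreducible] oo oo_act ad RM α

variable {G : Type*} [Group G]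

/-- a submonoid of a finite group is a subgroup -/
def finSub [Finite G] (P : G → Prop) (h1 : P 1) (hm : ∀ a b, P a → P b → P (a * b)) : Subgroup G where
  carrier := {g | P g}
  one_mem' := h1
  mul_mem' := fun a b => hm _ _ a b
  inv_mem' := fun {g} a => by
    obtain ⟨k, hk⟩ := (isOfFinOrder_of_finite g).mem_powers_iff_mem_zpowers.2 (inv_mem (mem_zpowers g))
    rw [← hk]
    clear hk
    induction k with
    | zero => simpa using h1
    | succ k ih => exact (show P (g ^ (k + 1)) from pow_succ g k ▸ hm _ _ ih a)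

theorem not_coatom_of_map {P : Subgroup G} (c : G)
    (h : ¬ IsCoatom (normalizer ((P.map (MulAut.conj c).toMonoidHom : Subgroup G) : Set G))) :
    ¬ IsCoatom (normalizer (P : Set G)) := fun k => h (by
  rw [← map_equiv_normalizer_eq]
  exact (OrderIso.isCoatom_iff (MulAut.conj c).mapSubgroup _).2 k)

theorem zpowers_eq_of_mem [Finite G] {p : ℕ} (hp : p.Prime) {a x : G} (ha : orderOf a = p)
    (hx : x ∈ zpowers a) (h1 : x ≠ 1) : zpowers x = zpowers a := by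
  refine eq_of_le_of_card_ge (zpowers_le.2 hx) ?_
  rw [Nat.card_zpowers, Nat.card_zpowers, ha]
  exact ((hp.eq_one_or_self_of_dvd _ (ha ▸ orderOf_dvd_of_mem_zpowers hx)).resolve_left
    (mt orderOf_eq_one_iff.1 h1)).ge

theorem exists_zpowers_of_card [Finite G] {p : ℕ} (hp : p.Prime) {P : Subgroup G}
    (h : Nat.card P = p) : ∃ x, x ≠ 1 ∧ x ^ p = 1 ∧ P = zpowers x := by
  have hb : P ≠ ⊥ := by rintro rfl; simp at h; exact hp.one_lt.ne h
  obtain ⟨⟨x, hx⟩, h1⟩ := ne_bot_iff_exists_ne_one.1 hb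
  have h1' : x ≠ 1 := fun e => h1 (Subtype.ext e)
  have h2 : x ^ p = 1 := congrArg Subtype.val (h ▸ pow_card_eq_one' (x := (⟨x, hx⟩ : P)))
  refine ⟨x, h1', h2, (eq_of_le_of_card_ge (zpowers_le.2 hx) ?_).symm⟩
  have : Fact p.Prime := ⟨hp⟩
  rw [Nat.card_zpowers, h, orderOf_eq_prime h2 h1']

theorem card_cases [Finite G] {p n : ℕ} (hp : p.Prime) {P : Subgroup G} (hP : IsPGroup p P)
    (h1 : P ≠ ⊥) (hn : ¬ p ^ (n + 1) ∣ Nat.card G) : ∃ k, 0 < k ∧ k ≤ n ∧ Nat.card P = p ^ k := by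
  have : Fact p.Prime := ⟨hp⟩
  obtain ⟨k, hk⟩ := hP.exists_card_eq
  refine ⟨k, Nat.pos_of_ne_zero fun e => h1 ?_, Nat.le_of_not_lt fun e => hn ?_, hk⟩
  · rw [e, pow_zero] at hk; exact card_eq_one.1 hk
  · exact (pow_dvd_pow p e).trans (hk ▸ card_subgroup_dvd_card P)

theorem exists_map_eq_zpowers [Finite G] {p : ℕ} (hp : p.Prime) {a : G} (ha : orderOf a = p)
    (h2 : ¬ p ^ 2 ∣ Nat.card G) {P : Subgroup G} (hP : IsPGroup p P) (h1 : P ≠ ⊥) :
    ∃ c : G, P.map (MulAut.conj c).toMonoidHom = zpowers a := by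
  obtain ⟨k, k0, k1, hk⟩ := card_cases hp hP h1 h2
  obtain rfl : k = 1 := by omega
  obtain ⟨x, x1, x2, rfl⟩ := exists_zpowers_of_card hp (hk.trans (pow_one p))
  obtain ⟨c, hc⟩ := exists_conj_mem_zpowers hp ha h2 x2
  refine ⟨c, ?_⟩
  rw [MonoidHom.map_zpowers]
  exact zpowers_eq_of_mem hp ha hc (by simpa using x1)

/-- the subgroup generated by two commuting elements -/
def two {a b : G} (h : Commute a b) : Subgroup G where
  carrier := {x | ∃ i j : ℤ, x = a ^ i * b ^ j}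
  one_mem' := ⟨0, 0, by simp⟩
  mul_mem' := by
    rintro _ _ ⟨i, j, rfl⟩ ⟨k, l, rfl⟩
    exact ⟨i + k, j + l, by
      rw [_root_.zpow_add, _root_.zpow_add, (h.zpow_zpow k j).mul_mul_mul_comm]⟩
  inv_mem' := by
    rintro _ ⟨i, j, rfl⟩
    exact ⟨-i, -j, by rw [(h.zpow_zpow i j).mul_inv, _root_.zpow_neg, _root_.zpow_neg]⟩

theorem exists_nat_pow {p : ℕ} (hp : 0 < p) {a : G} (ha : a ^ p = 1) (i : ℤ) :
    ∃ k, k < p ∧ a ^ i = a ^ k := by
  have h0 : (0 : ℤ) < p := by exact_mod_cast hp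
  refine ⟨(i % p).toNat, by have := Int.emod_lt_of_pos i h0; omega, ?_⟩
  rw [← zpow_natCast, Int.toNat_of_nonneg (Int.emod_nonneg _ h0.ne')]
  exact zpow_eq_zpow_emod' i ha

theorem mem_two {a b : G} {h : Commute a b} {p : ℕ} (hp : 0 < p) (ha : a ^ p = 1) (hb : b ^ p = 1)
    {x : G} (hx : x ∈ two h) : ∃ i, i < p ∧ ∃ j, j < p ∧ x = a ^ i * b ^ j := by
  obtain ⟨i, j, rfl⟩ := hx
  obtain ⟨k, k1, k2⟩ := exists_nat_pow hp ha i
  obtain ⟨l, l1, l2⟩ := exists_nat_pow hp hb j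
  exact ⟨k, k1, l, l1, by rw [k2, l2]⟩

theorem pow_mem_two {a b : G} (h : Commute a b) (i j : ℕ) : a ^ i * b ^ j ∈ two h :=
  ⟨i, j, by simp⟩

theorem exists_map_le_two [Finite G] {p : ℕ} (hp : p.Prime) {a b : G} (h : Commute a b)
    (ha : orderOf a = p) (hb : b ^ p = 1) (hn : b ∉ zpowers a) (h3 : ¬ p ^ 3 ∣ Nat.card G) :
    Nat.card (two h) = p ^ 2 ∧ ∀ P : Subgroup G, IsPGroup p P →
      ∃ c : G, P.map (MulAut.conj c).toMonoidHom ≤ two h := by
  have : Fact p.Prime := ⟨hp⟩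
  have ha' : a ^ p = 1 := ha ▸ pow_orderOf_eq_one a
  have hS : IsPGroup p (two h) := fun ⟨_, i, j, rfl⟩ => ⟨1, Subtype.ext (by
    show (a ^ i * b ^ j) ^ p ^ 1 = 1
    rw [pow_one, (h.zpow_zpow i j).mul_pow, ← _root_.zpow_natCast, ← _root_.zpow_natCast,
      ← _root_.zpow_mul, ← _root_.zpow_mul, mul_comm i, mul_comm j, _root_.zpow_mul, _root_.zpow_mul,
      _root_.zpow_natCast, _root_.zpow_natCast, ha', hb]
    simp)⟩
  have hlt : zpowers a < two h := lt_of_le_of_ne (zpowers_le.2 ⟨1, 0, by simp⟩)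
    fun e => hn (e ▸ ⟨0, 1, by simp⟩)
  obtain ⟨k, -, k1, hk⟩ := card_cases hp hS (ne_bot_of_gt hlt) h3
  have h2 : Nat.card (two h) = p ^ 2 := by
    have : Nat.card (zpowers a) < Nat.card (two h) :=
      lt_of_not_ge fun e => hlt.ne (eq_of_le_of_card_ge hlt.le e)
    rw [Nat.card_zpowers, ha, hk] at this
    have : 1 < k := (Nat.pow_lt_pow_iff_right hp.one_lt).1 (by simpa using this)
    rwa [show 2 = k by omega]
  refine ⟨h2, fun P hP => ?_⟩
  obtain ⟨S, hS1⟩ := hS.exists_le_sylow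
  obtain ⟨T, hT⟩ := hP.exists_le_sylow
  have hS2 : (S : Subgroup G) = two h := by
    obtain ⟨l, -, l1, hl⟩ := card_cases hp S.isPGroup' (ne_bot_of_gt (hlt.trans_le hS1)) h3
    exact (eq_of_le_of_card_ge hS1 (hl ▸ h2 ▸ Nat.pow_le_pow_right hp.pos l1)).symm
  obtain ⟨c, hc⟩ := MulAction.exists_smul_eq G T S
  exact ⟨c, hS2 ▸ hc ▸ map_mono hT⟩

variable {τ : G →* MM}

theorem Md.finite (h : Md τ) : Finite G := Nat.finite_of_card_ne_zero (by rw [h.card]; norm_num)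

theorem act_mul (g h : G) (v : W) : τ (g * h) *ᵥ v = τ g *ᵥ τ h *ᵥ v := by rw [map_mul, mulVec_mulVec]
theorem act_inv (g : G) (v : W) : τ g⁻¹ *ᵥ τ g *ᵥ v = v := by rw [← act_mul]; simp
theorem act_inv' (g : G) (v : W) : τ g *ᵥ τ g⁻¹ *ᵥ v = v := by rw [← act_mul]; simp

/-- fixed vectors -/
def Fx (τ : G →* MM) (Q : Subgroup G) (v : W) : Prop := ∀ g ∈ Q, τ g *ᵥ v = v

theorem Fx.norm {Q : Subgroup G} {n : G} (hn : n ∈ normalizer (Q : Set G)) {v : W} (h : Fx τ Q v) :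
    Fx τ Q (τ n *ᵥ v) := fun g hg => by
  have := h (n⁻¹ * g * n) (by simpa using (mem_normalizer_iff.1 (inv_mem hn) g).1 hg)
  rw [← act_mul, show g * n = n * (n⁻¹ * g * n) by group, act_mul, this]

theorem fx_of_gens {Q : Subgroup G} {S : Set G} (hQ : Q ≤ closure S) {v : W}
    (h : ∀ g ∈ S, τ g *ᵥ v = v) : Fx τ Q v := fun g hg => by
  refine closure_induction (p := fun g _ => τ g *ᵥ v = v) h (by simp) (fun a b _ _ x y => ?_)
    (fun a _ x => ?_) (hQ hg)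
  · rw [act_mul, y, x]
  · conv_lhs => rw [← x, act_inv]

theorem fx_zpowers {g : G} {v : W} (h : τ g *ᵥ v = v) : Fx τ (zpowers g) v :=
  fx_of_gens (zpowers_eq_closure g).le (by simpa using h)

theorem fx_two {a b : G} (c : Commute a b) {v : W} (h : τ a *ᵥ v = v) (k : τ b *ᵥ v = v) :
    Fx τ (two c) v := by
  rintro _ ⟨i, j, rfl⟩
  rw [act_mul, fx_zpowers k _ (zpow_mem (mem_zpowers b) j), fx_zpowers h _ (zpow_mem (mem_zpowers a) i)]

theorem not_coatom (h : Md τ) {Q : Subgroup G} {D : W → Prop}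
    (hN : ∀ n ∈ normalizer (Q : Set G), ∀ v, D v → D (τ n *ᵥ v)) {m s : G}
    (hm : ∀ v, D v → D (τ m *ᵥ v)) {y : W} (hy : Fx τ Q y) (hy' : ¬ Fx τ Q (τ m *ᵥ y))
    {d : W} (hd : D d) (hs : ¬ D (τ s *ᵥ d)) : ¬ IsCoatom (normalizer (Q : Set G)) := fun k => by
  have := h.finite
  let M := finSub (fun g => ∀ v, D v → D (τ g *ᵥ v)) (by simp)
    fun a b x y v hv => by rw [act_mul]; exact x _ (y v hv)
  have : M = ⊤ := k.2 M (lt_of_le_of_ne hN fun e => hy' (hy.norm (e ▸ (hm : m ∈ M))))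
  exact hs ((this ▸ mem_top s : s ∈ M) d hd)

/-- the sum of the first powers -/
noncomputable def psumO (o : Ops) (q k : ℕ) : ℕ := force q fun q =>
  Nat.rec (motive := fun _ => ℕ) 0 (fun _ ih => Nat.xor o.one (o.mul q ih)) k
theorem psumO_succ (o : Ops) (q k : ℕ) :
    psumO o q (k + 1) = Nat.xor o.one (o.mul q (psumO o q k)) := rfl
/-- the sum of the first powers -/
noncomputable def psum (q k : ℕ) : ℕ := psumO oo q k

theorem RM.psum {A : MM} {q : ℕ} (a : RM A q) {k : ℕ} (hk : Odd k) :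
    ∃ B, RM B (psum q k) ∧ ∀ v, A *ᵥ v = v → B *ᵥ v = v := by
  have : ∀ k, ∃ B, RM B (E2.psum q k) ∧ ∀ v, A *ᵥ v = v → B *ᵥ v = k • v := fun k => by
    induction k with
    | zero => exact ⟨0, RM.zero, by simp⟩
    | succ k ih =>
      obtain ⟨B, r, hB⟩ := ih
      refine ⟨1 + A * B, ?_, fun v hv => ?_⟩
      · rw [E2.psum, psumO_succ]; exact RM.add sM.one (sM.mul a r)
      rw [add_mulVec, ← mulVec_mulVec, hB v hv, mulVec_smul, hv, one_mulVec, succ_nsmul']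
  obtain ⟨B, r, hB⟩ := this k
  obtain ⟨j, rfl⟩ := hk
  exact ⟨B, r, fun v hv => by rw [hB v hv, succ_nsmul, mul_nsmul, two_nsmul, add_self_W]; simp⟩

/-- `C [B x, B y] = 0` for all `x`, `y` -/
noncomputable def killChk (c b : ℕ) : Bool := force c fun c => force b fun b =>
  allLt (fun k => Nat.beq (oo.mul c (oo.mul (ad (dig 78 b k)) b)) 0) 78

theorem kill {C B : MM} {c b : ℕ} (rc : RM C c) (rb : RM B b) (h : killChk c b = true) (x y : W) :
    C *ᵥ br (B *ᵥ x) (B *ᵥ y) = 0 := by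
  simp only [killChk, force_eq, allLt_iff, Nat.beq_eq] at h
  have : C * (α (B *ᵥ x) * B) = 0 := by
    refine W_induction (P := fun x => C * (α (B *ᵥ x) * B) = 0) (by simp) (fun v w a b => ?_)
      (fun k hk => ?_) x
    · rw [mulVec_add, map_add, add_mul, mul_add, a, b, add_zero]
    · exact ((sM.mul rc (sM.mul (rb.col hk).ad rb)).eq_iff RM.zero).2 (h k hk)
  rw [br, mulVec_mulVec, mulVec_mulVec, mul_assoc, this, zero_mulVec]

theorem eq_of_add_one {A : MM} {v : W} (h : (A + 1) *ᵥ v = 0) : A *ᵥ v = v := by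
  rw [add_mulVec, one_mulVec] at h
  rw [← add_zero (A *ᵥ v), ← add_self_W v, ← add_assoc, h, zero_add]

/-- `y` is fixed by `q` and `m y` is not -/
def Mv (q m y : ℕ) : Prop := y < 2 ^ 78 ∧ oo_act q y = y ∧ oo_act q (oo_act m y) ≠ oo_act m y

noncomputable instance (q m y : ℕ) : Decidable (Mv q m y) := inferInstanceAs (Decidable (_ ∧ _ ∧ _))

theorem Mv.fix {A : MM} {q m y : ℕ} (c : Mv q m y) (a : RM A q) : A *ᵥ vec y = vec y :=
  ((RV.act a (RV_vec c.1)).eq_iff (RV_vec c.1)).2 c.2.1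

theorem Mv.ne {A B : MM} {q m y : ℕ} (c : Mv q m y) (a : RM A q) (b : RM B m) :
    A *ᵥ B *ᵥ vec y ≠ B *ᵥ vec y := fun e =>
  c.2.2 (((RV.act a (RV.act b (RV_vec c.1))).eq_iff (RV.act b (RV_vec c.1))).1 e)

theorem caseA (h : Md τ) {g m s : G} {q cm cs p y0 y1 y2 : ℕ} (rq : RG τ g q) (rm : RG τ m cm)
    (rs : RG τ s cs) (hp : Odd p) (c1 : killChk (Nat.xor cm oo.one) (psum q p) = true)
    (c2 : Mv q cm y2) (c3 : Mv q cs (cbr y0 y1))
    (c4 : y0 < 2 ^ 78 ∧ y1 < 2 ^ 78 ∧ oo_act q y0 = y0 ∧ oo_act q y1 = y1) :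
    ¬ IsCoatom (normalizer (zpowers g : Set G)) := by
  obtain ⟨B, rB, hB⟩ := RM.psum rq hp
  have r0 := RV_vec c4.1
  have r1 := RV_vec c4.2.1
  refine not_coatom h (D := fun v => ∃ y z, Fx τ (zpowers g) y ∧ Fx τ (zpowers g) z ∧ v = br y z)
    ?_ (m := m) (s := s) ?_ (fx_zpowers (c2.fix rq)) (fun k => c2.ne rq rm (k g (mem_zpowers g)))
    ⟨_, _, fx_zpowers (((RV.act rq r0).eq_iff r0).2 c4.2.2.1),
      fx_zpowers (((RV.act rq r1).eq_iff r1).2 c4.2.2.2), rfl⟩ ?_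
  · rintro n hn _ ⟨y, z, a, b, rfl⟩
    exact ⟨_, _, a.norm hn, b.norm hn, (h.inv n).br y z⟩
  · rintro _ ⟨y, z, a, b, rfl⟩
    have := kill (RM.add rm sM.one) rB c1 y z
    rw [hB y (a g (mem_zpowers g)), hB z (b g (mem_zpowers g))] at this
    exact ⟨y, z, a, b, eq_of_add_one this⟩
  · rintro ⟨y, z, a, b, e⟩
    refine c3.ne rq rs ?_
    rw [← (r0.br r1).2, e, (h.inv g).br, a g (mem_zpowers g), b g (mem_zpowers g)]

/-- the columns of `b` are combinations of the vectors `c` -/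
def SpChk (b : ℕ) (c coef : List ℕ) : Prop := (∀ i, i < c.length → nth c i < 2 ^ 78) ∧
  force b (fun b => allLt (fun k => band (Nat.ble (Nat.succ (nth coef k)) (Nat.pow 2 (H54.len c)))
    (Nat.beq (dig 78 b k) (lc c (nth coef k)))) 78) = true

noncomputable instance (b : ℕ) (c coef : List ℕ) : Decidable (SpChk b c coef) :=
  inferInstanceAs (Decidable (_ ∧ _))

theorem RV_lc {c : List ℕ} (h : ∀ i, i < c.length → nth c i < 2 ^ 78) (x : ℕ) :
    RV (dec (fun i => vec (nth c i)) c.length x) (lc c x) :=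
  lc_rel RV.zero RV.add c _ (fun i hi => RV_vec (h i hi)) x

theorem SpChk.exists {B : MM} {b : ℕ} {c coef : List ℕ} (h : SpChk b c coef) (r : RM B b) (v : W) :
    ∃ x, x < 2 ^ c.length ∧ B *ᵥ v = dec (fun i => vec (nth c i)) c.length x := by
  have h2 := h.2
  simp only [force_eq, allLt_iff, band_eq_true, Nat.ble_eq, Nat.beq_eq, H54.len_eq] at h2
  refine W_induction (P := fun v => ∃ x, x < 2 ^ c.length ∧ B *ᵥ v = dec _ c.length x)
    ⟨0, Nat.two_pow_pos _, by rw [dec_zero, mulVec_zero]⟩ ?_ (fun k hk => ?_) v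
  · rintro v w ⟨x, a, e⟩ ⟨y, b, f⟩
    exact ⟨x ^^^ y, Nat.xor_lt_two_pow a b, by
      rw [dec_xor (fun _ _ => add_self_W _), mulVec_add, e, f]⟩
  · exact ⟨_, (h2 k hk).1, ((r.col hk).eq_iff (RV_lc h.1 _)).2 (h2 k hk).2⟩

theorem SpChk.existsRV {B : MM} {b : ℕ} {c coef : List ℕ} (h : SpChk b c coef) (r : RM B b) {v : W}
    (hv : B *ᵥ v = v) : ∃ x, x < 2 ^ c.length ∧ RV v (lc c x) := by
  obtain ⟨x, a, e⟩ := h.exists r v
  exact ⟨x, a, by rw [← hv, e]; exact RV_lc h.1 x⟩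

/-- square -/
noncomputable def sq (p : ℕ) : ℕ := force p fun p => oo.mul p p
theorem RM.sq {A : MM} {p : ℕ} (a : RM A p) : RM (A ^ 2) (sq p) := by
  rw [pow_two, E2.sq, force_eq]; exact sM.mul a a
theorem RM.p8 {A : MM} {p : ℕ} (a : RM A p) : RM (A ^ 8) (E2.sq (E2.sq (E2.sq p))) := by
  have := a.sq.sq.sq
  rwa [← pow_mul, ← pow_mul] at this

theorem conj_pow' {N A B : MM} (h : N * A = B * N) (k : ℕ) : N * A ^ k = B ^ k * N := by
  induction k with
  | zero => simp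
  | succ k ih => rw [pow_succ, ← mul_assoc, ih, mul_assoc, h, pow_succ, mul_assoc]

theorem cancel_τ {A B : MM} (n : G) (h : A * τ n = B * τ n) : A = B := by
  have := congrArg (· * τ n⁻¹) h
  simpa [mul_assoc, ← map_mul] using this

theorem caseB (h : Md τ) {g m s : G} {q cm cs p z0 y2 : ℕ} {c coef : List ℕ} (rq : RG τ g q)
    (rm : RG τ m cm) (rs : RG τ s cs) (hp : Odd p) (c1 : SpChk (psum q p) c coef)
    (c2 : Mv q cm y2) (c3 : Mv q cs z0) (c4 : sq (sq (sq (ad z0))) = ad z0)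
    (c5 : ∀ x, x < 2 ^ c.length → oo_act cm (lc c x) = lc c x ∨
      sq (sq (sq (ad (lc c x)))) ≠ ad (lc c x)) :
    ¬ IsCoatom (normalizer (zpowers g : Set G)) := by
  obtain ⟨B, rB, hB⟩ := RM.psum rq hp
  have r0 := RV_vec c3.1
  refine not_coatom h (D := fun v => Fx τ (zpowers g) v ∧ α v ^ 8 = α v)
    ?_ (m := m) (s := s) ?_ (fx_zpowers (c2.fix rq)) (fun k => c2.ne rq rm (k g (mem_zpowers g)))
    ⟨fx_zpowers (c3.fix rq), (r0.ad.p8.eq_iff r0.ad).2 c4⟩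
    (fun k => c3.ne rq rs (k.1 g (mem_zpowers g)))
  · rintro n hn v ⟨a, b⟩
    exact ⟨a.norm hn, cancel_τ (τ := τ) n (by rw [← conj_pow' (h.inv n v), b, h.inv n v])⟩
  · rintro v ⟨a, b⟩
    obtain ⟨x, hx, r⟩ := c1.existsRV rB (hB v (a g (mem_zpowers g)))
    rcases c5 x hx with e | e
    · rw [((RV.act rm r).eq_iff r).2 e]; exact ⟨a, b⟩
    · exact absurd ((r.ad.p8.eq_iff r.ad).1 b) e

end H5.E2
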