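import Mathlib
import Cfsg.Agent.Lib.H5.E2Loc

/-! Overgroups of the normalisers of `7²` and `19` (helper5). -/

set_option autoImplicit false
set_option maxRecDepth 100000
set_option exponentiation.threshold 1000000

namespace H5.E2
open H15.Mdl Matrix Subgroup
open H54 (dig nth force force_eq allLt allLt_iff sel sel_eq band band_eq_true bor bor_eq_true anyL anyL_iff)

attribute [local irreducible] oo oo_act ad RM α

variable {G : Type*} [Group G] {τ : G →* MM}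

/-- the trace of a coded matrix -/
noncomputable def ctr (p : ℕ) : ZMod 2 := force p fun p => (mat p).trace

theorem RM.lt {A : MM} {p : ℕ} (a : RM A p) : p < 2 ^ (78 * 78) := by
  unfold RM at a; exact a.1

theorem RM.trace {A : MM} {p : ℕ} (a : RM A p) : A.trace = ctr p := by
  rw [ctr, force_eq, sM.inj a (RM_mat a.lt)]

theorem br_act (h : Md τ) (n : G) (v y : W) : br (τ n *ᵥ v) y = τ n *ᵥ br v (τ n⁻¹ *ᵥ y) := by
  rw [(h.inv n).br, act_inv']

/-- the code of `a ^ i * b ^ j` -/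
noncomputable def pw2 (a b i j : ℕ) : ℕ := oo.mul (oo.pow a i) (oo.pow b j)

theorem RG_pw2 (h : Md τ) {a b : G} {ca cb : ℕ} (ra : RG τ a ca) (rb : RG τ b cb) (i j : ℕ) :
    RG τ (a ^ i * b ^ j) (pw2 ca cb i j) := h.snd.mul (h.snd.pow ra i) (h.snd.pow rb j)

theorem case49 (h : Md τ) {a b m s : G} {ca cb cm cs z0 y2 k y y' : ℕ} {c coef : List ℕ}
    (ra : RG τ a ca) (rb : RG τ b cb) (rm : RG τ m cm) (rs : RG τ s cs) (hab : Commute a b)
    (ha : a ^ 7 = 1) (hb : b ^ 7 = 1) (c1 : SpChk (oo.mul (psum ca 7) (psum cb 7)) c coef)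
    (c2 : Mv ca cm y2 ∧ oo_act cb y2 = y2) (c3 : Mv ca cs z0 ∧ oo_act cb z0 = z0)
    (c4 : ∀ i, i < 7 → ∀ j, j < 7 → ctr (pw2 ca cb i j) = 0 ∨
      oo.mul (ad z0) (psum (pw2 ca cb i j) 7) = 0)
    (c5 : ctr (pw2 ca cb 0 1) = 1 ∧ ctr (pw2 ca cb 1 k) = 1 ∧ y < 2 ^ 78 ∧ y' < 2 ^ 78 ∧
      oo_act (pw2 ca cb 0 1) y = y ∧ oo_act (pw2 ca cb 1 k) y' = y')
    (c6 : ∀ x, x < 2 ^ c.length → oo_act cm (lc c x) = lc c x ∨ cbr (lc c x) y ≠ 0 ∨
      cbr (lc c x) y' ≠ 0) : ¬ IsCoatom (normalizer (two hab : Set G)) := by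
  obtain ⟨A, rA, hA⟩ := RM.psum ra (k := 7) (by decide)
  obtain ⟨B, rB, hB⟩ := RM.psum rb (k := 7) (by decide)
  have ma : a ∈ two hab := by simpa using pow_mem_two hab 1 0
  have mb : b ∈ two hab := by simpa using pow_mem_two hab 0 1
  have fx : ∀ {m z}, Mv ca m z ∧ oo_act cb z = z → Fx τ (two hab) (vec z) := fun c =>
    fx_two hab (c.1.fix ra) (((RV.act rb (RV_vec c.1.1)).eq_iff (RV_vec c.1.1)).2 c.2)
  refine not_coatom h (D := fun v => Fx τ (two hab) v ∧ ∀ g ∈ two hab, (τ g).trace = 1 →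
    ∀ y, τ g *ᵥ y = y → br v y = 0) ?_ (m := m) (s := s) ?_ (fx c2)
    (fun k => c2.1.ne ra rm (k a ma)) ⟨fx c3, fun g hg ht y hy => ?_⟩
    (fun k => c3.1.ne ra rs (k.1 a ma))
  · rintro n hn v ⟨p, q⟩
    refine ⟨p.norm hn, fun g hg ht y hy => ?_⟩
    rw [br_act h, q (n⁻¹ * g * n) (by simpa using (mem_normalizer_iff.1 (inv_mem hn) g).1 hg), mulVec_zero]
    · rw [map_mul, trace_mul_comm, ← map_mul, mul_inv_cancel_left, ht]
    · rw [act_mul, act_mul, act_inv', hy]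
  · rintro v ⟨p, q⟩
    obtain ⟨x, hx, r⟩ := c1.existsRV (sM.mul rA rB) (v := v) (by
      rw [← mulVec_mulVec, hB v (p b mb), hA v (p a ma)])
    have k : ∀ i j z, ctr (pw2 ca cb i j) = 1 → z < 2 ^ 78 → oo_act (pw2 ca cb i j) z = z →
        cbr (lc c x) z = 0 := fun i j z h1 h2 h3 =>
      have rg := RG_pw2 h ra rb i j
      ((r.br (RV_vec h2)).eq_iff RV.zero).1 (q _ (pow_mem_two hab i j) (rg.trace.trans h1) _
        (((RV.act rg (RV_vec h2)).eq_iff (RV_vec h2)).2 h3))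
    rcases c6 x hx with e | e | e
    · rw [((RV.act rm r).eq_iff r).2 e]; exact ⟨p, q⟩
    · exact absurd (k _ _ _ c5.1 c5.2.2.1 c5.2.2.2.2.1) e
    · exact absurd (k _ _ _ c5.2.1 c5.2.2.2.1 c5.2.2.2.2.2) e
  · obtain ⟨i, hi, j, hj, rfl⟩ := mem_two (by norm_num) ha hb hg
    have rg := RG_pw2 h ra rb i j
    rcases c4 i hi j hj with e | e
    · rw [RM.trace rg, e] at ht; exact absurd ht (by decide)
    · obtain ⟨C, rC, hC⟩ := RM.psum rg (k := 7) (by decide)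
      rw [br, ← hC y hy, mulVec_mulVec,
        ((sM.mul (RV_vec c3.1.1).ad rC).eq_iff RM.zero).2 e, zero_mulVec]

/-- a polynomial in a matrix -/
def horM (A : MM) : List Bool → MM
  | [] => 0
  | b :: L => horM A L * A + if b then 1 else 0

/-- its code -/
noncomputable def horO (o : Ops) (p : ℕ) (L : List Bool) : ℕ := force p fun p =>
  List.rec (motive := fun _ => ℕ) 0 (fun b _ ih => Nat.xor (o.mul ih p) (sel b o.one 0)) L
theorem horO_cons (o : Ops) (p : ℕ) (b : Bool) (L : List Bool) :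
    horO o p (b :: L) = Nat.xor (o.mul (horO o p L) p) (sel b o.one 0) := rfl

theorem RM.hor {A : MM} {p : ℕ} (a : RM A p) : ∀ L, RM (horM A L) (horO oo p L)
  | [] => RM.zero
  | b :: L => by
    rw [horO_cons, horM]
    refine RM.add (sM.mul (a.hor L) a) ?_
    cases b
    exacts [RM.zero, sM.one]

theorem conj_horM {N A B : MM} (h : N * A = B * N) : ∀ L, N * horM A L = horM B L * N
  | [] => by simp [horM]
  | b :: L => by
    rw [horM, horM, mul_add, add_mul, ← mul_assoc, conj_horM h L, mul_assoc, h, mul_assoc]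
    cases b <;> simp

/-- the code of `Z ^ 511` -/
noncomputable def p511 (z : ℕ) : ℕ := force z fun z =>
  force (oo.mul (sq (oo.mul (sq z) z)) z) fun a =>
    oo.mul (sq (sq (sq (oo.mul (sq (sq (sq a))) a)))) a

theorem RM.p511 {A : MM} {p : ℕ} (a : RM A p) : ∃ B, RM (B * A) (p511 p) := by
  rw [E2.p511, force_eq, force_eq]
  have h7 := sM.mul (sM.mul a.sq a).sq a
  have := sM.mul (sM.mul h7.p8 h7).p8 h7
  rw [← mul_assoc _ _ A] at this
  exact ⟨_, this⟩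

/-- the kernel of `z` lies in the image of `π`, or it is not closed under the bracket -/
noncomputable def kerChk (π : ℕ) (wit : List (ℕ × ℕ)) (z : ℕ) : Bool := force z fun z =>
  bor (Nat.beq (oo.mul (Nat.xor π oo.one) (Nat.xor (p511 z) oo.one)) 0)
    (anyL (fun w => band (Nat.beq (oo_act z w.1) 0) (band (Nat.beq (oo_act z w.2) 0)
      (bnot (Nat.beq (oo_act z (cbr w.1 w.2)) 0)))) wit)

theorem kerChk_spec {π z : ℕ} {wit : List (ℕ × ℕ)} (h : kerChk π wit z = true) :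
    oo.mul (Nat.xor π oo.one) (Nat.xor (p511 z) oo.one) = 0 ∨ ∃ w ∈ wit, oo_act z w.1 = 0 ∧
      oo_act z w.2 = 0 ∧ oo_act z (cbr w.1 w.2) ≠ 0 := by
  rw [kerChk, force_eq, bor_eq_true, anyL_iff] at h
  refine h.imp Nat.eq_of_beq_eq_true fun ⟨w, hw, k⟩ => ⟨w, hw, ?_⟩
  rw [band_eq_true, band_eq_true, bnot_eq_true, Nat.beq_eq, Nat.beq_eq, Nat.beq_eq] at k
  exact k

theorem ker_le {Z P : MM} {z π : ℕ} (rz : RM Z z) (rp : RM P π)
    (e : oo.mul (Nat.xor π oo.one) (Nat.xor (p511 z) oo.one) = 0) {v : W} (hv : Z *ᵥ v = 0) :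
    P *ᵥ v = v := by
  obtain ⟨B, rB⟩ := rz.p511
  have := congrArg (· *ᵥ v)
    (((sM.mul (rp.add sM.one) (rB.add sM.one)).eq_iff RM.zero).2 e)
  simp only [← mulVec_mulVec, zero_mulVec] at this
  rw [add_mulVec (B * Z), ← mulVec_mulVec, hv, mulVec_zero, zero_add, one_mulVec] at this
  exact eq_of_add_one this

theorem case19 (h : Md τ) {u m s : G} {q cm cs x0 d y2 π z : ℕ} {c coef : List ℕ} {fb : List Bool}
    {wit : List (ℕ × ℕ)} (rq : RG τ u q) (rm : RG τ m cm) (rs : RG τ s cs) (hu : u ^ 19 = 1)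
    (h1 : u ≠ 1) (c1 : SpChk (psum q 19) c coef) (c2 : Mv q cm y2)
    (c3 : x0 < 2 ^ 78 ∧ oo_act q x0 = x0 ∧ Nat.xor (ad x0) (horO oo q fb) = z ∧ π < 2 ^ (78 * 78) ∧
      oo.mul (Nat.xor π oo.one) (Nat.xor (p511 z) oo.one) = 0 ∧ oo.mul z π = 0 ∧
      oo.mul z (oo.mul cm π) = 0 ∧ d < 2 ^ 78 ∧ oo_act z d = 0 ∧ oo_act z (oo_act cs d) ≠ 0 ∧
      ∀ w ∈ wit, w.1 < 2 ^ 78 ∧ w.2 < 2 ^ 78)
    (c4 : killChk z π = true)
    (c5 : ∀ k, k < 18 → force (horO oo (oo.pow q (k + 1)) fb) (fun f =>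
      allLt (fun x => kerChk π wit (Nat.xor (ad (lc c x)) f)) (2 ^ c.length)) = true) :
    ¬ IsCoatom (normalizer (zpowers u : Set G)) := by
  obtain ⟨a1, a2, a3, a4, a5, a6, a7, a8, a9, a10, a11⟩ := c3
  obtain ⟨B, rB, hB⟩ := RM.psum rq (k := 19) (by decide)
  have r0 := RV_vec a1
  have rp := RM_mat a4
  obtain ⟨Z, hZ⟩ : ∃ Z, Z = α (vec x0) + horM (τ u) fb := ⟨_, rfl⟩
  have rZ : RM Z z := by rw [hZ, ← a3]; exact r0.ad.add (RM.hor rq fb)
  have k1 : ∀ v, Z *ᵥ v = 0 → mat π *ᵥ v = v := fun v => ker_le rZ rp a5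
  have k2 : ∀ v, mat π *ᵥ v = v → Z *ᵥ v = 0 := fun v hv => by
    rw [← hv, mulVec_mulVec, ((sM.mul rZ rp).eq_iff RM.zero).2 a6, zero_mulVec]
  refine not_coatom h (D := fun v => Z *ᵥ v = 0) ?_ (m := m) (s := s) (fun v hv => ?_)
    (fx_zpowers (c2.fix rq)) (fun k => c2.ne rq rm (k u (mem_zpowers u)))
    (((RV.act rZ (RV_vec a8)).eq_iff RV.zero).2 a9)
    (fun k => a10 (((RV.act rZ (RV.act rs (RV_vec a8))).eq_iff RV.zero).1 k))
  · intro n hn v hv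
    obtain ⟨i, hi⟩ := (mem_normalizer_iff.1 hn u).1 (mem_zpowers u)
    obtain ⟨k, k0, hk⟩ := exists_nat_pow (by norm_num) hu i
    replace hk : n * u * n⁻¹ = u ^ k := hi.symm.trans hk
    obtain ⟨k, rfl⟩ : ∃ l, k = l + 1 := ⟨k - 1, by
      rcases k with _ | k
      · exact absurd (by simpa using hk) h1
      · rfl⟩
    obtain ⟨x, hx, rx⟩ := c1.existsRV rB (hB _ ((fx_zpowers (((RV.act rq r0).eq_iff r0).2 a2)).norm hn
      u (mem_zpowers u)))
    obtain ⟨Y, hY⟩ : ∃ Y, Y = α (τ n *ᵥ vec x0) + horM (τ (u ^ (k + 1))) fb := ⟨_, rfl⟩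
    have e : τ n * Z = Y * τ n := by
      rw [hZ, hY, mul_add, add_mul, h.inv n, conj_horM (B := τ (u ^ (k + 1)))]
      rw [← map_mul, ← map_mul, ← hk, inv_mul_cancel_right]
    have e1 : ∀ w, Z *ᵥ w = 0 → Y *ᵥ τ n *ᵥ w = 0 := fun w hw => by
      rw [mulVec_mulVec, ← e, ← mulVec_mulVec, hw, mulVec_zero]
    have e2 : ∀ w, Y *ᵥ w = 0 → Z *ᵥ τ n⁻¹ *ᵥ w = 0 := fun w hw => by
      rw [← act_inv (τ := τ) n (Z *ᵥ _), mulVec_mulVec _ (τ n), e, ← mulVec_mulVec, act_inv', hw,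
        mulVec_zero]
    have c6 := c5 k (by omega)
    rw [force_eq, allLt_iff] at c6
    have rY := rx.ad.add (RM.hor (h.snd.pow rq (k + 1)) fb)
    rw [← hY] at rY
    rcases kerChk_spec (c6 x hx) with c7 | ⟨w, hw, b1, b2, b3⟩
    · exact k2 _ (ker_le rY rp c7 (e1 v hv))
    · have s1 := RV_vec (a11 w hw).1
      have s2 := RV_vec (a11 w hw).2
      have t1 := k1 _ (e2 _ (((RV.act rY s1).eq_iff RV.zero).2 b1))
      have t2 := k1 _ (e2 _ (((RV.act rY s2).eq_iff RV.zero).2 b2))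
      have := kill rZ rp c4 (τ n⁻¹ *ᵥ vec w.1) (τ n⁻¹ *ᵥ vec w.2)
      rw [t1, t2, ← (h.inv n⁻¹).br] at this
      have := e1 _ this
      rw [act_inv'] at this
      exact absurd (((RV.act rY (s1.br s2)).eq_iff RV.zero).1 this) b3
  · rw [← k1 v hv, mulVec_mulVec, mulVec_mulVec, mul_assoc,
      ((sM.mul rZ (sM.mul rm rp)).eq_iff RM.zero).2 a7, zero_mulVec]

end H5.E2
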