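import Mathlib
import Cfsg.Agent.Lib.ChevAut.Rigid
import Cfsg.Prelude.Def_KGroupFacts

/-! Three classes of absolutely irreducible subgroups of `²E₆(2)` (helper5). -/

set_option autoImplicit false

namespace H5.E6T
open H38 H39 H61 Cfsg Cfsg.Lie

section Abstract
variable {ι l : Type} [Fintype l] [DecidableEq l] [Finite ι]
variable {R : RS ι l} {K : Type*} [Field K] {G : Type*} [Group G] {E : Elts R K G}

theorem mem_range_ψ_of_conj (hF : E.Faith) (hG : E.Gp = ⊤) (h3 : E.R3) {a : G} {c : l → Kˣ}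
    (h : Pinned E (MulAut.conj a) id c fun _ => RingEquiv.refl K) : c ∈ (ψ R K).range := by
  have m : a ∈ E.H := Pinned.mem_H_of_conj hF hG (ρ := 1) h
  obtain ⟨z, rfl⟩ : a ∈ (Elts.tor h3).range := by rwa [Elts.tor_range]
  refine ⟨z, funext fun i => Units.ext ?_⟩
  have := hF.x_inj _ (((pinned_conj_tor h3 z).pos i 1).symm.trans (h.pos i 1))
  simpa using this

end Abstract

theorem sq_inner {S : Type*} [Group S] (h : Nat.card (Out S) = 2) (θ : MulAut S) :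
    ∃ s : S, ∀ y, θ (θ y) = s * y * s⁻¹ := by
  have h1 : (QuotientGroup.mk (θ ^ 2) : Out S) = 1 := by
    rw [QuotientGroup.mk_pow, ← h]; exact pow_card_eq_one'
  obtain ⟨s, hs⟩ := (QuotientGroup.eq_one_iff _).1 h1
  exact ⟨s, fun y => by
    have := DFunLike.congr_fun hs y
    simpa [pow_two] using this.symm⟩

variable {K : Type*} [Field K] [Fintype K]

theorem three (hK : Fintype.card K = 4) {S : Type*} [Group S] (φ₀ : S →* twistedE6 K 2)
    (hφ₀ : Function.Injective φ₀) (hO : Nat.card (Out S) = 2)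
    (hC : ∀ M : Matrix chevE6.Idx chevE6.Idx K,
      (∀ s, M * ((φ₀ s : GL chevE6.Idx K) : Matrix _ _ K) = ((φ₀ s : GL chevE6.Idx K) : Matrix _ _ K) * M) →
        ∃ c : K, M = c • (1 : Matrix _ _ K)) :
    ∃ H : Fin 3 → Subgroup (twistedE6 K 2), (∀ i, Nonempty ((H i) ≃* S)) ∧
    ∀ i j, i ≠ j → ∀ g : twistedE6 K 2, (H i).map (MulAut.conj g).toMonoidHom ≠ H j := by
  classical
  have : Finite S := Finite.of_injective _ hφ₀
  obtain ⟨R, E, hE, T, hT, hΓ⟩ := exists_E6 (K := K) (q := 2) Nat.prime_two.isPrimePow hK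
  have T6 := H37.tab (D := chevE6) (by simp)
  have hle : twistedE6 K 2 ≤ chevE6.group K := hΓ ▸ Subgroup.map_subtype_le _
  let φ : S →* chevE6.group K := (Subgroup.inclusion hle).comp φ₀
  have hφ : Function.Injective φ := (Subgroup.inclusion_injective hle).comp hφ₀
  have hφΓ : ∀ y, φ y ∈ T.Γ := fun y => by
    obtain ⟨a, ha, e⟩ : (φ₀ y).1 ∈ T.Γ.map (chevE6.group K).subtype := hΓ ▸ (φ₀ y).2
    have : a = φ y := Subtype.ext e
    exact this ▸ ha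
  have h3 : ∀ z : Kˣ, z ^ 3 = 1 := fun z => by
    have := pow_card_eq_one (x := z)
    rwa [Fintype.card_units, hK] at this
  obtain ⟨ω, hω⟩ : ∃ ω : Kˣ, ω ≠ 1 := by
    have : Nontrivial Kˣ := Fintype.one_lt_card_iff_nontrivial.1 (by rw [Fintype.card_units, hK]; norm_num)
    exact exists_ne 1
  let c : Fin 6 → Kˣ := ![ω, 1, 1, 1, 1, ω ^ 2]
  choose d hd0 hd using fun i : Fin 3 => exists_diag hE T6 (c ^ (i : ℕ))
  have hc : ∀ i, c (rho2E6 i) = c i ^ 2 := fun i => by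
    have : ω = (ω ^ 2) ^ 2 := by rw [← pow_mul, show 2 * 2 = 3 + 1 from rfl, pow_succ, h3, one_mul]
    fin_cases i <;> simp [c, rho2E6]
    exact this
  have hdΓ : ∀ i, ∀ g ∈ T.Γ, d i g ∈ T.Γ := fun i g hg =>
    diag_mem_Γ hT (hd i) (fun j => by simp [hc, ← pow_mul, mul_comm]) hg
  let ψ' : Fin 3 → (S →* twistedE6 K 2) := fun i =>
    ((chevE6.group K).subtype.comp ((d i).toMonoidHom.comp φ)).codRestrict _ fun y =>
      hΓ ▸ ⟨_, hdΓ i _ (hφΓ y), rfl⟩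
  have hψ' : ∀ i, Function.Injective (ψ' i) := fun i x y e =>
    hφ ((d i).injective (Subtype.ext (congrArg (fun g : twistedE6 K 2 => g.1) e)))
  refine ⟨fun i => (ψ' i).range, fun i => ⟨(MonoidHom.ofInjective (hψ' i)).symm⟩,
    fun i j hij g e => ?_⟩
  obtain ⟨a₀, -, ha⟩ : g.1 ∈ T.Γ.map (chevE6.group K).subtype := hΓ ▸ g.2
  obtain ⟨δ, hδe⟩ : ∃ δ, δ = (d i).trans (d j).symm := ⟨_, rfl⟩
  obtain ⟨a, hae⟩ : ∃ a, a = (d j).symm a₀ := ⟨_, rfl⟩
  let c' : Fin 6 → Kˣ := fun k => (c k ^ (j : ℕ))⁻¹ * c k ^ (i : ℕ)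
  have hδ : Pinned hE.grp δ id c' fun _ => RingEquiv.refl K :=
    hδe ▸ (hd i).trans (Pinned.symm (ρ := 1) (hd j))
  have h : ∀ y, ∃ y', φ y' = a * δ (φ y) * a⁻¹ := fun y => by
    obtain ⟨y', hy'⟩ : MulAut.conj g (ψ' i y) ∈ (ψ' j).range := e.le ⟨_, ⟨y, rfl⟩, rfl⟩
    refine ⟨y', (d j).injective (Subtype.ext ?_)⟩
    have := congrArg Subtype.val hy'
    simpa [ψ', ← ha, hδe, hae] using this
  choose f hf using h
  let f' : S →* S := MonoidHom.mk' f fun x y => hφ (by simp [hf])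
  have hf' : Function.Injective f' := fun x y e => by
    have := congrArg φ e
    simp only [f', MonoidHom.mk'_apply, hf, mul_left_inj, mul_right_inj] at this
    exact hφ (δ.injective this)
  obtain ⟨s, hs⟩ := sq_inner hO (MulEquiv.ofBijective f' (Finite.injective_iff_bijective.1 hf'))
  obtain ⟨b, hb⟩ : ∃ b, b = (φ s)⁻¹ * (a * δ a) := ⟨_, rfl⟩
  have k1 : ∀ y, b * δ (δ (φ y)) * b⁻¹ = φ y := fun y => by
    have := congrArg φ (hs y)
    simp only [MulEquiv.ofBijective_apply, f', MonoidHom.mk'_apply, hf, map_mul, map_inv] at this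
    rw [hb]
    calc _ = (φ s)⁻¹ * (a * (δ a * δ (δ (φ y)) * (δ a)⁻¹) * a⁻¹) * φ s := by group
      _ = _ := by rw [this]; group
  have hδ2 : Pinned hE.grp (δ.trans δ) id (c' * c') fun _ => RingEquiv.refl K := hδ.trans hδ
  obtain ⟨χ, hχ, hχ'⟩ := (isDiagonalAut_iff hE T6).2 ⟨_, hδ2⟩
  have k2 : ∀ x : chevE6.group K, (δ (δ x) : GL chevE6.Idx K) = cdU chevE6 χ * x * (cdU chevE6 χ)⁻¹ :=
    fun x => Units.ext (hχ' x)
  obtain ⟨u, hu⟩ : ∃ u : GL chevE6.Idx K, u = b * cdU chevE6 χ := ⟨_, rfl⟩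
  obtain ⟨t, ht⟩ := hC u fun y => by
    have := congrArg Subtype.val (k1 y)
    rw [Subgroup.coe_mul, Subgroup.coe_mul, k2, Subgroup.coe_inv] at this
    have h2 : u * (φ y : GL chevE6.Idx K) = φ y * u := by
      conv_rhs => rw [← this]
      rw [hu]; group
    exact congrArg Units.val h2
  have k3 : δ.trans δ = MulAut.conj b⁻¹ := MulEquiv.ext fun x => Subtype.ext (by
    have h2 : u * (x : GL chevE6.Idx K) = x * u := Units.ext (by
      rw [Units.val_mul, Units.val_mul, ht]; simp)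
    rw [MulEquiv.trans_apply, k2, MulAut.conj_apply, inv_inv, Subgroup.coe_mul, Subgroup.coe_mul,
      Subgroup.coe_inv]
    calc _ = (b : GL chevE6.Idx K)⁻¹ * (u * x * u⁻¹) * b := by rw [hu]; group
      _ = _ := by rw [h2]; group)
  have := chi_eq_one hT h3 (mem_range_ψ_of_conj hE.grp_faith hE.grp_top hE.grp_R3 (k3 ▸ hδ2))
  change (((ω ^ (j : ℕ))⁻¹ * ω ^ (i : ℕ)) * ((ω ^ (j : ℕ))⁻¹ * ω ^ (i : ℕ))) *
    ((((1 : Kˣ) ^ (j : ℕ))⁻¹ * 1 ^ (i : ℕ)) * (((1 : Kˣ) ^ (j : ℕ))⁻¹ * 1 ^ (i : ℕ))) ^ 2 *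
    ((((1 : Kˣ) ^ (j : ℕ))⁻¹ * 1 ^ (i : ℕ)) * (((1 : Kˣ) ^ (j : ℕ))⁻¹ * 1 ^ (i : ℕ))) *
    ((((ω ^ 2) ^ (j : ℕ))⁻¹ * (ω ^ 2) ^ (i : ℕ)) * (((ω ^ 2) ^ (j : ℕ))⁻¹ * (ω ^ 2) ^ (i : ℕ))) ^ 2 = 1
    at this
  have ho : orderOf ω = 3 := orderOf_eq_prime (h3 ω) hω
  have e5 : ω ^ (10 * ((i : ℤ) - j)) = 1 := by
    rw [← this]; simp only [one_pow, inv_one, mul_one]
    simp only [← zpow_natCast, ← zpow_mul, ← zpow_neg, ← zpow_add]
    congr 1; push_cast; ring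
  rw [← orderOf_dvd_iff_zpow_eq_one, ho] at e5
  exact hij (Fin.ext (by omega))

end H5.E6T
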