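import Mathlib
import Cfsg.Agent.Lib.H5.E6Data
import Cfsg.Agent.Lib.H5.E6Three
import Cfsg.Agent.Lib.ChevMat.FieldMap

/-! A homomorphism `Fi₂₂ → ²E₆(2)` with scalar commutant (helper5). -/

set_option autoImplicit false
set_option maxRecDepth 100000

namespace H5.E6F
open H15.Mdl Cfsg Cfsg.Lie H30 H5.C4
open H54 (nth)

variable {K : Type*} [Field K]

theorem R_of_chk (f : F4 →+* K) (X : Is4 K (f F4.w)) {r : ℕ} {t : F4} {p : ℕ} (c : chkX r t p) :
    R4 (f F4.w) ix 78 (chevE6.x K r (f t)) p :=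
  R4.of_chk X num (fun a b => by
    rw [← (H37.tab (D := chevE6) (by simp)).x_map f, Matrix.map_apply]
    conv_lhs => rw [← f4_cd (chevE6.x F4 r t a b)]
    simp only [f4, map_add, apply_ite f, map_one, map_zero]) c

/-- the code of an invertible matrix -/
def Rm (ω : K) (g : GL chevE6.Idx K) (p : ℕ) : Prop :=
  R4 ω ix 78 (g : Matrix chevE6.Idx chevE6.Idx K) p

theorem snd {ω : K} (X : Is4 K ω) : Sound o (Rm ω) := (sound4 X num o_is).units

theorem in_of {ω : K} (X : Is4 K ω) {w : List (ℕ × K)} (hw : w ∈ e6Words K 2) {p : ℕ} (hp : p ∈ GS)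
    (r : R4 ω ix 78 (chevE6.wordMat K w) p) : In (Rm ω) (twistedE6 K 2) p := by
  obtain ⟨u, hu⟩ := (sound4 X num o_is).exists_unit r two_ne_zero (GS_sq p hp)
  exact ⟨u, Subgroup.subset_closure ⟨w, hw, hu⟩, by rw [Rm, hu]; exact r⟩

theorem in_one' (f : F4 →+* K) (X : Is4 K (f F4.w)) {r p : ℕ} (hr : r ∈ [e6p2, e6m2, e6p4, e6m4])
    (c : chkX r F4.i p) (hp : p ∈ GS) : In (Rm (f F4.w)) (twistedE6 K 2) p :=
  in_of X (Or.inl ⟨f F4.i, by rw [← map_pow]; rfl, r, hr, rfl⟩) hp (by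
    simpa [ChevalleyDatum.wordMat] using R_of_chk f X c)

theorem in_two (f : F4 →+* K) (X : Is4 K (f F4.w)) {r s p q g : ℕ} {t : F4}
    (hr : (r, s) ∈ [(e6p1, e6p6), (e6m1, e6m6), (e6p3, e6p5), (e6m3, e6m5)])
    (c : chkX r t p) (c' : chkX s (t ^ 2) q) (e : o.eqv (o.mul p q) g = true) (hp : g ∈ GS) :
    In (Rm (f F4.w)) (twistedE6 K 2) g :=
  in_of X (Or.inr ⟨f t, (r, s), hr, rfl⟩) hp (by
    have h := sound4 X num o_is
    simpa [ChevalleyDatum.wordMat] using h.tr (h.mul (R_of_chk f X c) (R_of_chk f X c')) e)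

theorem allIn (f : F4 →+* K) (X : Is4 K (f F4.w)) : AllIn (Rm (f F4.w)) (twistedE6 K 2) GS :=
  .cons (in_one' f X (by simp [e6p2]) r0_ok (by simp [GS])) <|
  .cons (in_one' f X (by simp [e6m2]) r1_ok (by simp [GS])) <|
  .cons (in_one' f X (by simp [e6p4]) r2_ok (by simp [GS])) <|
  .cons (in_one' f X (by simp [e6m4]) r3_ok (by simp [GS])) <|
  .cons (in_two f X (by simp [e6p1, e6p6]) r4_ok r5_ok g0_ok (by simp [GS])) <|
  .cons (in_two f X (by simp [e6m1, e6m6]) r6_ok r7_ok g1_ok (by simp [GS])) <|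
  .cons (in_two f X (by simp [e6p3, e6p5]) r8_ok r9_ok g2_ok (by simp [GS])) <|
  .cons (in_two f X (by simp [e6m3, e6m5]) r10_ok r11_ok g3_ok (by simp [GS])) <|
  .cons (in_two f X (by simp [e6p1, e6p6]) r12_ok r13_ok g4_ok (by simp [GS])) (allIn_nil _)

theorem exists_hom [Fintype K] (hK : Fintype.card K = 4) : ∃ φ : Spor.Fi22 →* twistedE6 K 2,
    φ (PresentedGroup.of Spor.Fi22.Gen.a) ≠ 1 ∧ ∀ M : Matrix chevE6.Idx chevE6.Idx K,
      (∀ x, x ≠ Spor.Fi22.Gen.a →
        M * ((φ (PresentedGroup.of x) : GL chevE6.Idx K) : Matrix _ _ K) =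
          ((φ (PresentedGroup.of x) : GL chevE6.Idx K) : Matrix _ _ K) * M) →
      ∃ c : K, M = c • (1 : Matrix _ _ K) := by
  obtain ⟨f₀⟩ := F4.nonempty_ringEquiv hK
  let f : F4 →+* K := f₀.symm
  have X : Is4 K (f F4.w) := is4_of_card hK (by
    rw [← map_pow, ← map_add, ← map_one f, ← map_add, ← map_zero f]; rfl)
  choose v hv hR using fun x =>
    (In.word (snd X) (allIn f X) (wd x) (code_wd x).1).tr (snd X) (code_wd x).2
  let u : Spor.Fi22.Gen → twistedE6 K 2 := fun x => ⟨v x, hv x⟩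
  have hu := (snd X).sub (twistedE6 K 2)
  have hU : ∀ x, (fun (g : twistedE6 K 2) p => Rm (f F4.w) (g : GL chevE6.Idx K) p) (u x) (code x) := hR
  have hrel : ∀ r ∈ Spor.coxRelators Spor.Fi22.edges ∪ {r | r ∈ Spor.Fi22.extra},
      FreeGroup.lift u r = 1 := by
    rintro r (⟨x, -, y, -, rfl⟩ | hr)
    · rw [map_pow, map_mul, FreeGroup.lift_apply_of, FreeGroup.lift_apply_of]
      exact (hu.isOne_iff (hu.pow (hu.mul (hU x) (hU y)) _)).1 (code_cox x y)
    · simp only [Spor.Fi22.extra, Set.mem_setOf_eq, List.mem_cons, List.not_mem_nil, or_false] at hr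
      rcases hr with rfl | rfl | rfl <;>
        simp only [map_pow, map_mul, FreeGroup.lift_apply_of]
      · exact (hu.isOne_iff (hu.pow (hu.mul (hu.mul (hu.mul (hu.mul (hu.mul (hu.mul (hu.mul (hu.mul
          (hU .d) (hU .c)) (hU .b)) (hU .d)) (hU .e)) (hU .f)) (hU .d)) (hU .h)) (hU .i)) _)).1 code_r1
      · exact (hu.isOne_iff (hu.pow (hu.mul (hu.mul (hu.mul (hu.mul (hu.mul (hu.mul
          (hU .a) (hU .b)) (hU .c)) (hU .d)) (hU .e)) (hU .f)) (hU .h)) _)).1 code_r2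
      · exact (hu.isOne_iff (hu.pow (hu.mul (hu.mul (hu.mul (hu.mul (hu.mul (hu.mul
          (hU .b) (hU .c)) (hU .d)) (hU .e)) (hU .f)) (hU .g)) (hU .h)) _)).1 code_r3
  refine ⟨PresentedGroup.toGroup hrel, fun e => ?_, fun M hM => ?_⟩
  · rw [PresentedGroup.toGroup.of] at e
    have h2 := (hu.isOne_iff (hU .a)).2 e
    rw [code_ne] at h2
    exact Bool.noConfusion h2
  · simp only [PresentedGroup.toGroup.of] at hM
    have hc : ∀ x, x ≠ Spor.Fi22.Gen.a → Cm (f F4.w) ix 78 M (code x) := fun x hx => ⟨_, hR x, hM x hx⟩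
    have k : ∀ x, x ≠ Spor.Fi22.Gen.a → Cm (f F4.w) ix 78 M (Nat.xor (code x) o.one) :=
      fun x hx => (hc x hx).add_one X num o_is
    refine scalar_of_cert X num o_is (S := SS) (fun s hs => ?_) (e := eE) (eE_ok ▸
      (k .i (by decide)).mul X num o_is ((k .f (by decide)).mul X num o_is
        ((k .d (by decide)).mul X num o_is (k .b (by decide))))) o_act_eq c1 c2 c3 c4
    simp only [SS, List.mem_cons, List.not_mem_nil, or_false] at hs
    rcases hs with rfl | rfl | rfl | rfl | rfl | rfl | rfl | rfl | rfl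
    exacts [hc .b (by decide), hc .c (by decide), hc .d (by decide), hc .e (by decide),
      hc .f (by decide), hc .g (by decide), hc .h (by decide), hc .i (by decide),
      om_ok ▸ Cm.omega X num o_is M]

end H5.E6F
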