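import Mathlib
import Cfsg.Agent.Lib.H5.E2MkD
import Cfsg.Agent.Lib.H5.E6Fi
import Cfsg.Agent.S1066
import Cfsg.Agent.S1070

/-! The group `²E₆(2)` acts on its Lie algebra over `𝔽₂` (helper5). -/

set_option autoImplicit false
set_option maxRecDepth 100000
set_option exponentiation.threshold 1000000

namespace H5.E2
open H15.Mdl H30 H5.E6F Cfsg Cfsg.Lie Matrix
open H54 (nth dig force force_eq allLt allLt_iff band band_eq_true dig_lt)

variable {K : Type*} [Field K] {ω : K}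

/-- the basis of the form over `𝔽₂` -/
noncomputable def bb (ω : K) (k : ℕ) : chevE6.Idx → K := dec (b4 ω ix) (2 * 78) (nth BL k)

theorem dec_bb (X : Is4 K ω) (x : ℕ) : lc BL x < 2 ^ (2 * 78) ∧
    dec (bb ω) 78 x = dec (b4 ω ix) (2 * 78) (lc BL x) :=
  lc_rel (R := fun v c => c < 2 ^ (2 * 78) ∧ v = dec (b4 ω ix) (2 * 78) c)
    ⟨by norm_num, (dec_zero _ _).symm⟩ (fun a b => ⟨Nat.xor_lt_two_pow a.1 b.1, by
      rw [a.2, b.2]; exact (dec_xor (f2Data4 X num (rho4 _ K)).two _ _).symm⟩) BL (bb ω)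
    (fun i hi => ⟨BL_lt i hi, rfl⟩) x

theorem testBit_lc {k : ℕ} (hk : k < 78) (x : ℕ) : (lc BL x).testBit (nth PV k) = x.testBit k := by
  have := lc_rel (V := ZMod 2) (R := fun a p => a = if p.testBit (nth PV k) then 1 else 0) (by simp)
    (fun {a b p q} h1 h2 => by
      rw [h1, h2, show Nat.xor p q = p ^^^ q from rfl, Nat.testBit_xor]
      cases p.testBit _ <;> cases q.testBit _ <;> decide)
    BL (fun i => if i = k then 1 else 0) (fun i hi => by rw [BL_PV k hk i hi]; simp) x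
  have e : dec (fun i => if i = k then (1 : ZMod 2) else 0) BL.length x =
      if x.testBit k then 1 else 0 := by
    show ∑ i ∈ Finset.range 78, _ = _
    rw [Finset.sum_eq_single k]
    · simp
    · intro i _ hi; simp [hi]
    · intro h; exact absurd (Finset.mem_range.2 hk) h
  rw [e] at this
  revert this
  cases x.testBit k <;> cases (lc BL x).testBit _ <;> decide

theorem DB (X : Is4 K ω) : F2Data (rho4 chevE6.Idx K) (bb ω) 78 where
  pos := by norm_num
  two := fun _ _ => funext fun _ => add_self4 X.two _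
  ind := fun x hx h => by
    have h1 := (f2Data4 X num (rho4 _ K)).ind _ (dec_bb X x).1 ((dec_bb X x).2.symm.trans h)
    apply Nat.eq_of_testBit_eq; intro i
    rw [Nat.zero_testBit]
    rcases Nat.lt_or_ge i 78 with hi | hi
    · rw [← testBit_lc hi, h1, Nat.zero_testBit]
    · exact Nat.testBit_lt_two_pow (lt_of_lt_of_le hx (Nat.pow_le_pow_right (by norm_num) hi))

/-- the matrix `A` has the code `p` on the form, and respects the bracket -/
def RB (ω : K) (A : Matrix chevE6.Idx chevE6.Idx K) (p : ℕ) : Prop :=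
  R2 (rho4 chevE6.Idx K) (bb ω) 78 A p ∧ Inv (mat p)

theorem mat_mul {p q : ℕ} (hp : p < 2 ^ (78 * 78)) (hq : q < 2 ^ (78 * 78)) :
    mat (oo.mul p q) = mat p * mat q :=
  have h := sM.mul (RM_mat hp) (RM_mat hq)
  sM.inj (RM_mat h.1) h

theorem RB.one (X : Is4 K ω) : RB ω 1 oo.one :=
  ⟨oo_is.one ▸ R2.one (DB X), (sM.inj sM.one (RM_mat sM.one.1)) ▸ Inv.one⟩

theorem RB.mul (X : Is4 K ω) {A B : Matrix chevE6.Idx chevE6.Idx K} {p q : ℕ} (a : RB ω A p)
    (b : RB ω B q) : RB ω (A * B) (oo.mul p q) :=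
  ⟨oo_is.mul p q ▸ a.1.mul (DB X) b.1, mat_mul a.1.1 b.1.1 ▸ a.2.mul b.2⟩

theorem RB.congr {A B : Matrix chevE6.Idx chevE6.Idx K} {p : ℕ} (a : RB ω A p) (e : B = A) :
    RB ω B p := e ▸ a

theorem RB_of (X : Is4 K ω) {A : Matrix chevE6.Idx chevE6.Idx K} {P p : ℕ} (r : R4 ω ix 78 A P)
    (c : convChk P p = true) : RB ω A p := by
  simp only [convChk, force_eq, band_eq_true, allLt_iff, Nat.ble_eq, Nat.beq_eq] at c
  refine ⟨⟨c.1, fun k hk => ?_⟩, (RM_mat c.1).inv c.2.2⟩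
  rw [(dec_bb X _).2, ← c.2.1 k hk, o_act_eq]
  exact (R2.dec_act (f2Data4 X num (rho4 _ K)) r (BL_lt k hk)).2.symm

theorem RB_pair (f : F4 →+* K) (X : Is4 K (f F4.w)) {r s a b c d p q : ℕ}
    (ha : chkX r F4.i a) (hb : chkX s F4.i b) (hc : chkX r F4.w c) (hd : chkX s F4.v d)
    (c1 : convChk (o.mul a b) p = true) (c2 : convChk (o.mul c d) q = true)
    (c3 : o.comm c b = true) (t : F4) :
    RB (f F4.w) (chevE6.wordMat K [(r, f F4.i), (s, f F4.i ^ 2)]) p ∧
    RB (f F4.w) (chevE6.wordMat K [(r, f F4.w), (s, f F4.w ^ 2)]) q ∧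
    ∃ y, RB (f F4.w) (chevE6.wordMat K [(r, f t), (s, f t ^ 2)]) y := by
  have T := H37.tab (D := chevE6) (by simp)
  have h := sound4 X num o_is
  have e : ∀ t : F4, chevE6.wordMat K [(r, f t), (s, f t ^ 2)] =
      chevE6.x K r (f t) * chevE6.x K s (f (t ^ 2)) := fun t => by simp [ChevalleyDatum.wordMat]
  have k1 := RB_of X (h.mul (R_of_chk f X ha) (R_of_chk f X hb)) c1
  have k2 := RB_of X (h.mul (R_of_chk f X hc) (R_of_chk f X hd)) c2
  refine ⟨e _ ▸ k1, e _ ▸ k2, ?_⟩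
  rw [e]
  cases t
  · refine ⟨_, (RB.one X).congr ?_⟩
    rw [show F4.o ^ 2 = 0 by decide, show F4.o = 0 from rfl, map_zero, T.x_zero, T.x_zero, mul_one]
  · exact ⟨_, k1⟩
  · exact ⟨_, k2⟩
  · refine ⟨_, (k1.mul X k2).congr ?_⟩
    rw [show F4.v ^ 2 = F4.i + F4.v by decide, map_add, ← T.x_add,
      show f F4.v = f F4.i + f F4.w by rw [← map_add]; rfl, ← T.x_add, ← map_add, mul_assoc, mul_assoc,
      ← mul_assoc (chevE6.x K r (f F4.w)), (h.comm_iff (R_of_chk f X hc) (R_of_chk f X hb)).1 c3,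
      mul_assoc]

theorem RB_one (f : F4 →+* K) (X : Is4 K (f F4.w)) {r a p : ℕ} (ha : chkX r F4.i a)
    (c1 : convChk a p = true) : RB (f F4.w) (chevE6.wordMat K [(r, f F4.i)]) p := by
  simpa [ChevalleyDatum.wordMat] using RB_of X (R_of_chk f X ha) c1

theorem isUnit_wordMat (w : List (ℕ × K)) : IsUnit (chevE6.wordMat K w) := by
  have T := H37.tab (D := chevE6) (by simp)
  induction w with
  | nil => exact isUnit_one
  | cons a w ih => exact (T.isUnit_x K a.1 a.2).mul ih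

theorem exists_md [Fintype K] (hK : Fintype.card K = 4) : ∃ τ : twistedE6 K 2 →* MM, Md τ := by
  classical
  obtain ⟨f₀⟩ := F4.nonempty_ringEquiv hK
  let f : F4 →+* K := f₀.symm
  have hf : Function.Surjective f := f₀.symm.surjective
  have X : Is4 K (f F4.w) := is4_of_card hK (by
    rw [← map_pow, ← map_add, ← map_one f, ← map_add, ← map_zero f]; rfl)
  have p1 := RB_pair f X r4_ok r5_ok r12_ok r13_ok cv4 cv8 cm0
  have p2 := RB_pair f X r6_ok r7_ok s0_ok s1_ok cv5 cv9 cm1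
  have p3 := RB_pair f X r8_ok r9_ok s2_ok s3_ok cv6 cv10 cm2
  have p4 := RB_pair f X r10_ok r11_ok s4_ok s5_ok cv7 cv11 cm3
  have q1 := RB_one f X r0_ok cv0
  have q2 := RB_one f X r1_ok cv1
  have q3 := RB_one f X r2_ok cv2
  have q4 := RB_one f X r3_ok cv3
  have hw : ∀ w ∈ e6Words K 2, ∃ y, RB (f F4.w) (chevE6.wordMat K w) y := by
    rintro _ (⟨t, ht, r, hr, rfl⟩ | ⟨t, r, hr, rfl⟩)
    · rcases eq_zero_or_one_of_sq_eq_self ht with rfl | rfl
      · refine ⟨_, (RB.one X).congr ?_⟩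
        simp [ChevalleyDatum.wordMat, (H37.tab (D := chevE6) (by simp)).x_zero]
      · rw [← map_one f]
        simp only [List.mem_cons, List.not_mem_nil, or_false] at hr
        rcases hr with rfl | rfl | rfl | rfl
        exacts [⟨_, q1⟩, ⟨_, q2⟩, ⟨_, q3⟩, ⟨_, q4⟩]
    · obtain ⟨t, rfl⟩ := hf t
      simp only [List.mem_cons, List.not_mem_nil, or_false] at hr
      rcases hr with rfl | rfl | rfl | rfl
      exacts [(p1 t).2.2, (p2 t).2.2, (p3 t).2.2, (p4 t).2.2]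
  let S : Subgroup (GL chevE6.Idx K) :=
    { carrier := {g | ∃ y, RB (f F4.w) (g : Matrix _ _ K) y}
      one_mem' := ⟨_, RB.one X⟩
      mul_mem' := fun ⟨_, a⟩ ⟨_, b⟩ => ⟨_, a.mul X b⟩
      inv_mem' := fun {g} ⟨y, a⟩ => by
        obtain ⟨k, hk⟩ := (isOfFinOrder_of_finite g).mem_powers_iff_mem_zpowers.2
          (inv_mem (Subgroup.mem_zpowers g))
        rw [← hk]
        clear hk
        induction k with
        | zero => exact ⟨_, RB.one X⟩
        | succ k ih =>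
          obtain ⟨z, b⟩ := ih
          exact ⟨_, (b.mul X a).congr (by simp only [pow_succ, Units.val_mul])⟩ }
  have hS : twistedE6 K 2 ≤ S := (Subgroup.closure_le _).2 fun g ⟨w, h1, h2⟩ =>
    (hw w h1).imp fun y r => h2 ▸ r
  choose p hp using fun g : twistedE6 K 2 => hS g.2
  have hu : ∀ (g : twistedE6 K 2) y, RB (f F4.w) ((g : GL chevE6.Idx K) : Matrix _ _ K) y → p g = y :=
    fun g y r => (hp g).1.eq_of (DB X) r.1 fun _ _ => rfl
  let τ : twistedE6 K 2 →* MM :=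
    { toFun := fun g => mat (p g)
      map_one' := by rw [hu 1 _ (RB.one X)]; exact sM.inj (RM_mat sM.one.1) sM.one
      map_mul' := fun g h => by
        rw [hu (g * h) _ ((hp g).mul X (hp h)), mat_mul (hp g).1.1 (hp h).1.1] }
  have hin : ∀ w ∈ e6Words K 2, ∀ y, RB (f F4.w) (chevE6.wordMat K w) y → In (RG τ) ⊤ y :=
    fun w h1 y r => by
      obtain ⟨u, e⟩ := isUnit_wordMat w
      refine ⟨⟨u, Subgroup.subset_closure ⟨w, h1, e⟩⟩, trivial, ?_⟩
      show RM (mat (p _)) y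
      rw [hu _ y (r.congr e)]
      exact RM_mat r.1.1
  have o1 : f F4.i ^ 2 = f F4.i := by rw [← map_pow]; rfl
  have hG : AllIn (RG τ) ⊤ GS :=
    .cons (hin _ (Or.inl ⟨_, o1, e6p2, by simp, rfl⟩) _ q1) <|
    .cons (hin _ (Or.inl ⟨_, o1, e6m2, by simp, rfl⟩) _ q2) <|
    .cons (hin _ (Or.inl ⟨_, o1, e6p4, by simp, rfl⟩) _ q3) <|
    .cons (hin _ (Or.inl ⟨_, o1, e6m4, by simp, rfl⟩) _ q4) <|
    .cons (hin _ (Or.inr ⟨_, (e6p1, e6p6), by simp, rfl⟩) _ (p1 0).1) <|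
    .cons (hin _ (Or.inr ⟨_, (e6m1, e6m6), by simp, rfl⟩) _ (p2 0).1) <|
    .cons (hin _ (Or.inr ⟨_, (e6p3, e6p5), by simp, rfl⟩) _ (p3 0).1) <|
    .cons (hin _ (Or.inr ⟨_, (e6m3, e6m5), by simp, rfl⟩) _ (p4 0).1) <|
    .cons (hin _ (Or.inr ⟨_, (e6p1, e6p6), by simp, rfl⟩) _ (p1 0).2.1) <|
    .cons (hin _ (Or.inr ⟨_, (e6m1, e6m6), by simp, rfl⟩) _ (p2 0).2.1) <|
    .cons (hin _ (Or.inr ⟨_, (e6p3, e6p5), by simp, rfl⟩) _ (p3 0).2.1) <|
    .cons (hin _ (Or.inr ⟨_, (e6m3, e6m5), by simp, rfl⟩) _ (p4 0).2.1) (allIn_nil _)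
  have hi : Function.Injective τ := by
    rw [← MonoidHom.ker_eq_bot_iff]
    refine ((Cfsg.Agent.S1070.result (K := K) (q := 2) Nat.prime_two.isPrimePow
      hK).1.eq_bot_or_eq_top_of_normal τ.ker inferInstance).resolve_right fun e => ?_
    obtain ⟨g, -, r⟩ := hG _ (H54.nth_mem GS 0 (by decide))
    have := (sM.isOne_iff r).2 (MonoidHom.mem_ker.1 (e ▸ Subgroup.mem_top g))
    rw [GS_ne] at this
    exact Bool.noConfusion this
  refine ⟨τ, hi, fun g => (hp g).2, hG.of_slpChk (sM.comap τ hi) slp_ok, ?_⟩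
  have := Cfsg.Agent.S1066.result (K := K) (q := 2) Nat.prime_two.isPrimePow hK
  rw [show Nat.gcd 3 (2 + 1) = 3 from rfl] at this
  exact Nat.eq_of_mul_eq_mul_left (by norm_num : 0 < 3) (this.trans (by norm_num))

end H5.E2
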