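import Mathlib

/-!
Sylow numbers of normal subgroups and quotients divide the Sylow numbers of the group.
-/

set_option autoImplicit false

namespace H5

variable {G : Type*} [Group G] [Finite G] {p : ℕ} [Fact p.Prime]

theorem relIndex_eq_index_of_sup {M N : Subgroup G} [N.Normal] (h : M ⊔ N = ⊤) :
    M.relIndex N = M.index := by
  have h1 := Subgroup.relIndex_mul_index (inf_le_left : M ⊓ N ≤ M)
  have h2 := Subgroup.relIndex_mul_index (inf_le_right : M ⊓ N ≤ N)
  rw [Subgroup.inf_relIndex_left, ← Subgroup.relIndex_sup_right, h, Subgroup.relIndex_top_right]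
    at h1
  rw [Subgroup.inf_relIndex_right, ← h1, mul_comm] at h2
  exact Nat.eq_of_mul_eq_mul_left (Nat.pos_of_ne_zero Subgroup.index_ne_zero_of_finite) h2

theorem card_sylow_normal_dvd (N : Subgroup G) [hN : N.Normal] :
    Nat.card (Sylow p N) ∣ Nat.card (Sylow p G) := by
  obtain ⟨R⟩ : Nonempty (Sylow p N) := inferInstance
  obtain ⟨P, hP⟩ := R.exists_comap_subtype_eq
  have h1 : (R : Subgroup N).map N.subtype = (P : Subgroup G) ⊓ N := by
    rw [← hP]; exact Subgroup.subgroupOf_map_subtype _ _
  have h2 := R.normalizer_sup_eq_top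
  rw [h1] at h2
  rw [R.card_eq_index_normalizer, P.card_eq_index_normalizer]
  have h3 : Subgroup.normalizer (R : Set N) =
      (Subgroup.normalizer ((P ⊓ N : Subgroup G) : Set G)).subgroupOf N := by
    rw [Subgroup.subgroupOf_normalizer_eq inf_le_right, Subgroup.inf_subgroupOf_right]
    rw [show (P : Subgroup G).subgroupOf N = R from hP]
    rfl
  rw [h3]
  change Subgroup.relIndex _ N ∣ _
  rw [relIndex_eq_index_of_sup h2]
  refine Subgroup.index_dvd_of_le fun g hg => Subgroup.mem_normalizer_iff.mpr fun x => ?_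
  have h4 := Subgroup.mem_normalizer_iff.mp hg x
  exact and_congr h4 ⟨fun h => hN.conj_mem _ h _, fun h => by simpa [mul_assoc] using hN.conj_mem _ h g⁻¹⟩

theorem card_sylow_dvd_of_surjective {Q : Type*} [Group Q] {f : G →* Q}
    (hf : Function.Surjective f) : Nat.card (Sylow p Q) ∣ Nat.card (Sylow p G) := by
  have : Finite Q := Finite.of_surjective f hf
  obtain ⟨P⟩ : Nonempty (Sylow p G) := inferInstance
  rw [(P.mapSurjective hf).card_eq_index_normalizer, P.card_eq_index_normalizer,
    ← Subgroup.index_comap_of_surjective _ hf]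
  refine Subgroup.index_dvd_of_le (Subgroup.map_le_iff_le_comap.mp ?_)
  exact Subgroup.le_normalizer_map (H := (P : Subgroup G)) f

/-- If the Sylow numbers for `p` and `s` are coprime and some Sylow `s`-subgroup normalises `P`,
then all do. -/
theorem sylow_le_normalizer_of_coprime {s : ℕ} [Fact s.Prime] (P : Sylow p G)
    (hc : (Nat.card (Sylow p G)).Coprime (Nat.card (Sylow s G)))
    (hs : ¬ s ∣ Nat.card (Sylow p G)) (S : Sylow s G) :
    (S : Subgroup G) ≤ Subgroup.normalizer (P : Set G) := by
  set M := Subgroup.normalizer (P : Set G)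
  rw [P.card_eq_index_normalizer] at hc hs
  obtain ⟨T⟩ : Nonempty (Sylow s M) := inferInstance
  have hT : ¬ s ∣ ((T : Subgroup M).map M.subtype).index := by
    rw [Subgroup.index_map_subtype]
    exact fun h => ((Nat.Prime.dvd_mul Fact.out).mp h).elim T.not_dvd_index hs
  let T' : Sylow s G := (T.isPGroup'.map M.subtype).toSylow hT
  have h1 : MulAction.IsPretransitive M (Sylow s G) := by
    refine ⟨fun A B => ?_⟩
    have h2 := Subgroup.relIndex_mul_index
      (inf_le_left : M ⊓ MulAction.stabilizer G A ≤ M)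
    have h3 := Subgroup.relIndex_mul_index
      (inf_le_right : M ⊓ MulAction.stabilizer G A ≤ MulAction.stabilizer G A)
    have h4 : (MulAction.stabilizer G A).index = Nat.card (Sylow s G) := by
      rw [MulAction.index_stabilizer_of_transitive]
    have h5 : (MulAction.stabilizer G A).relIndex M = (MulAction.orbit M A).ncard := by
      rw [← MulAction.index_stabilizer M A]; rfl
    rw [Subgroup.inf_relIndex_left, h5] at h2
    have h6 : Nat.card (Sylow s G) ∣ (MulAction.orbit M A).ncard :=
      hc.symm.dvd_of_dvd_mul_right (by rw [h2, ← h3, h4]; exact dvd_mul_left _ _)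
    have h7 : MulAction.orbit M A = Set.univ := by
      refine Set.eq_of_subset_of_ncard_le (Set.subset_univ _) ?_
      rw [Set.ncard_univ]
      exact Nat.le_of_dvd ((Set.ncard_pos).mpr ⟨A, MulAction.mem_orbit_self A⟩) h6
    exact (h7 ▸ Set.mem_univ B : B ∈ MulAction.orbit M A)
  obtain ⟨g, rfl⟩ := h1.exists_smul_eq T' S
  rintro _ ⟨x, hx, rfl⟩
  exact M.mul_mem (M.mul_mem g.2 (Subgroup.map_subtype_le _ hx)) (M.inv_mem g.2)

end H5
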